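import Groth.Agent.QCohLib.Coherent
import Groth.Agent.QCohLib.Vanishing
import Groth.Prelude.Def_Formal2
import Mathlib.RingTheory.Noetherian.Basic

/-!
# Sections of `M / I ^ n M` over affine opens
-/

universe u

open CategoryTheory CategoryTheory.Limits AlgebraicGeometry Opposite TopologicalSpace

namespace FormalLib

variable {A : Type u} [CommRing A] {X : Scheme.{u}} [X.Over (Spec (CommRingCat.of A))]

/-- The structure map from `A` to the functions on an open. -/
noncomputable def rhoA (A : Type u) [CommRing A] {X : Scheme.{u}} [X.Over (Spec (CommRingCat.of A))] (U : X.Opens) :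
    A →+* Γ(X, U) :=
  (X.presheaf.map (homOfLE (le_top : U ≤ ⊤)).op).hom.comp (Coh.toGlobal (X ↘ Spec (CommRingCat.of A)))

/-- Sections of a module, as an `A`-module. -/
def Sec (_A : Type u) [CommRing _A] {X : Scheme.{u}} (M : X.Modules) (U : X.Opens) : Type u := Γ(M, U)

noncomputable instance (M : X.Modules) (U : X.Opens) : AddCommGroup (Sec A M U) :=
  inferInstanceAs (AddCommGroup Γ(M, U))

noncomputable instance secModule (M : X.Modules) (U : X.Opens) : Module A (Sec A M U) :=
  Module.compHom Γ(M, U) (rhoA A U)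

/-- Plain sections as `Sec`. -/
noncomputable def toSec (A : Type u) [CommRing A] (M : X.Modules) (U : X.Opens) : Γ(M, U) ≃+ Sec A M U := AddEquiv.refl _

lemma smul_toSec (M : X.Modules) (U : X.Opens) (a : A) (x : Γ(M, U)) :
    a • toSec A M U x = toSec A M U (rhoA A U a • x) := rfl

/-- A morphism of modules on sections, linearly. -/
noncomputable def secMap {M N : X.Modules} (φ : M ⟶ N) (U : X.Opens) : Sec A M U →ₗ[A] Sec A N U where
  toFun x := toSec A N U (φ.app U ((toSec A M U).symm x))
  map_add' x y := map_add (φ.app U).hom x y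
  map_smul' a x := QCohLib.app_smul φ U (rhoA A U a) x

lemma secMap_comp {M N P : X.Modules} (φ : M ⟶ N) (ψ : N ⟶ P) (U : X.Opens) (x : Sec A M U) :
    secMap ψ U (secMap φ U x) = secMap (φ ≫ ψ) U x := rfl

/-- Restriction of sections, linearly. -/
noncomputable def secRes (M : X.Modules) {U V : X.Opens} (h : V ≤ U) : Sec A M U →ₗ[A] Sec A M V where
  toFun x := toSec A M V (M.presheaf.map (homOfLE h).op ((toSec A M U).symm x))
  map_add' x y := map_add (M.presheaf.map (homOfLE h).op).hom x y
  map_smul' a x := by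
    refine (Scheme.Modules.map_smul M (homOfLE h) (rhoA A U a) _).trans ?_
    refine congrArg (fun r => r • M.presheaf.map (homOfLE h).op ((toSec A M U).symm x)) ?_
    show (X.presheaf.map _ ≫ X.presheaf.map (homOfLE h).op).hom (Coh.toGlobal (X ↘ Spec (CommRingCat.of A)) a) = _
    rw [← Functor.map_comp]
    rfl

lemma smulMod_app (M : X.Modules) (a : A) (U : X.Opens) (x : Sec A M U) :
    secMap (Formal.smulMod A M a) U x = a • x := rfl

section Ideal

variable (M : X.Modules) (I : Ideal A) (n : ℕ)

instance hasFiniteBiproducts_modules : HasFiniteBiproducts X.Modules := Abelian.hasFiniteBiproducts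

instance epi_modPowπ : Epi (Formal.modPowπ I n M) := inferInstanceAs (Epi (cokernel.π _))

lemma smulMod_modPowπ {a : A} (ha : a ∈ I ^ n) : Formal.smulMod A M a ≫ Formal.modPowπ I n M = 0 := by
  have h : Sigma.ι (fun _ : ↥(I ^ n) => M) ⟨a, ha⟩ ≫ Formal.smulFamily (I ^ n) M = Formal.smulMod A M a :=
    Sigma.ι_desc _ _
  rw [← h, Category.assoc]
  exact (congrArg (fun t => _ ≫ t) (cokernel.condition (Formal.smulFamily (I ^ n) M))).trans comp_zero

lemma secMap_modPowπ_eq_zero (U : X.Opens) {x : Sec A M U} (hx : x ∈ (I ^ n • ⊤ : Submodule A (Sec A M U))) :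
    secMap (Formal.modPowπ I n M) U x = 0 := by
  refine Submodule.smul_induction_on hx (fun a ha m _ => ?_) fun x y hx hy => by rw [map_add, hx, hy, add_zero]
  rw [← smulMod_app, secMap_comp, smulMod_modPowπ M I n ha]
  rfl

lemma smulMod_add (a b : A) : Formal.smulMod A M (a + b) = Formal.smulMod A M a + Formal.smulMod A M b := by
  apply Scheme.Modules.hom_ext
  intro U
  refine ConcreteCategory.hom_ext _ _ fun x => ?_
  exact add_smul a b (toSec A M U x)

lemma smulMod_mul (a b : A) : Formal.smulMod A M (a * b) = Formal.smulMod A M b ≫ Formal.smulMod A M a := by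
  apply Scheme.Modules.hom_ext
  intro U
  refine ConcreteCategory.hom_ext _ _ fun x => ?_
  exact mul_smul a b (toSec A M U x)

variable [IsNoetherianRing A] [Coh.IsQCoh M]

/-- `M / I ^ n M` is the cokernel of a finite family of multiplications. -/
lemma exists_finite_presentation :
    ∃ (r : Type u) (_ : Fintype r) (a : r → A), (∀ k, a k ∈ I ^ n) ∧
      ∃ w : biproduct.desc (fun k : r => Formal.smulMod A M (a k)) ≫ Formal.modPowπ I n M = 0,
        (ShortComplex.mk _ _ w).Exact := by
  obtain ⟨s, hs⟩ := (IsNoetherian.noetherian (I ^ n) : (I ^ n).FG)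
  have ha : ∀ k : {x // x ∈ s}, (k : A) ∈ I ^ n := fun k => hs ▸ Submodule.subset_span k.2
  have w : biproduct.desc (fun k : {x // x ∈ s} => Formal.smulMod A M (k : A)) ≫ Formal.modPowπ I n M = 0 :=
    biproduct.hom_ext' _ _ fun k => by rw [biproduct.ι_desc_assoc, smulMod_modPowπ M I n (ha k), comp_zero]
  refine ⟨{x // x ∈ s}, inferInstance, fun k => k, ha, w, ShortComplex.exact_of_g_is_cokernel _ ?_⟩
  have key : ∀ {T : X.Modules} (ψ : M ⟶ T),
      biproduct.desc (fun k : {x // x ∈ s} => Formal.smulMod A M (k : A)) ≫ ψ = 0 →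
        Formal.smulFamily (I ^ n) M ≫ ψ = 0 := fun ψ h => by
    refine Sigma.hom_ext _ _ fun a => ?_
    rw [comp_zero, ← Category.assoc, show Sigma.ι (fun _ : ↥(I ^ n) => M) a ≫ Formal.smulFamily (I ^ n) M =
      Formal.smulMod A M (a : A) from Sigma.ι_desc _ _]
    have ha : (a : A) ∈ Submodule.span A (s : Set A) := hs.symm ▸ a.2
    generalize (a : A) = b at ha
    induction ha using Submodule.span_induction with
    | mem y hy =>
      have := congrArg (fun t => biproduct.ι (fun _ : {x // x ∈ s} => M) ⟨y, hy⟩ ≫ t) h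
      simpa using this
    | zero =>
      have h0 : Formal.smulMod A M 0 = 0 := by
        have := smulMod_add M (0 : A) 0
        rw [add_zero] at this
        exact (left_eq_add.1 this)
      rw [h0, zero_comp]
    | add y z _ _ hy hz => rw [smulMod_add, Preadditive.add_comp, hy, hz, add_zero]
    | smul c y _ hy => rw [smul_eq_mul, mul_comm, smulMod_mul, Category.assoc, hy, comp_zero]
  exact CokernelCofork.IsColimit.ofπ' _ w fun {T} ψ hψ => ⟨cokernel.desc _ ψ (key ψ hψ), cokernel.π_desc _ _ _⟩

lemma app_surjective_of_epi {N : X.Modules} (φ : M ⟶ N) [Epi φ] [Coh.IsQCoh N] {U : X.Opens} (hU : IsAffineOpen U) :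
    Function.Surjective (φ.app U) := by
  have hS : (ShortComplex.mk _ _ (kernel.condition φ)).ShortExact :=
    { exact := ShortComplex.exact_of_f_is_kernel _ (kernelIsKernel φ) }
  have : Coh.IsQCoh (ShortComplex.mk _ _ (kernel.condition φ)).X₁ := QCohLib.isQCoh_kernel φ
  exact QCohLib.app_surjective_of_affine hS hU

lemma isQCoh_modPow : Coh.IsQCoh (Formal.modPow I n M) :=
  have : Coh.IsQCoh (∐ fun _ : ↥(I ^ n) => M) := QCohLib.isQCoh_sigma _ fun _ => ‹_›
  QCohLib.isQCoh_cokernel _

lemma secMap_modPowπ_surjective {U : X.Opens} (hU : IsAffineOpen U) :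
    Function.Surjective (secMap (A := A) (Formal.modPowπ I n M) U) := by
  have := isQCoh_modPow M I n
  exact app_surjective_of_epi M (Formal.modPowπ I n M) hU

/-- The kernel of `M(U) → (M / I ^ n M)(U)` is `I ^ n M(U)`. -/
theorem ker_secMap_modPowπ {U : X.Opens} (hU : IsAffineOpen U) :
    LinearMap.ker (secMap (A := A) (Formal.modPowπ I n M) U) = I ^ n • ⊤ := by
  refine le_antisymm (fun x hx => ?_) (fun x hx => secMap_modPowπ_eq_zero M I n U hx)
  obtain ⟨r, _, a, ha, w, hex⟩ := exists_finite_presentation M I n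
  have := isQCoh_modPow M I n
  have hP : Coh.IsQCoh (⨁ fun _ : r => M) :=
    have : Coh.IsQCoh (∐ fun _ : r => M) := QCohLib.isQCoh_sigma _ fun _ => ‹_›
    QCohLib.isQCoh_of_iso (biproduct.isoCoproduct _).symm
  let K := kernel (Formal.modPowπ I n M)
  have hK : Coh.IsQCoh K := QCohLib.isQCoh_kernel _
  let Φ : (⨁ fun _ : r => M) ⟶ K := kernel.lift _ _ w
  have : Epi Φ := (ShortComplex.exact_iff_epi_kernel_lift _).1 hex
  have hS : (ShortComplex.mk _ _ (kernel.condition (Formal.modPowπ I n M))).Exact :=
    ShortComplex.exact_of_f_is_kernel _ (kernelIsKernel _)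
  have h0 : secMap (A := A) (Formal.modPowπ I n M) U x = 0 := hx
  have h0' : (Formal.modPowπ I n M).app U ((toSec A M U).symm x) = 0 := h0
  obtain ⟨k, hk⟩ := QCohLib.exists_of_app_eq_zero hS (inferInstanceAs (Mono (kernel.ι _))) _ h0'
  obtain ⟨e, rfl⟩ := app_surjective_of_epi (⨁ fun _ : r => M) Φ hU k
  have hx' : x = secMap (A := A) (biproduct.desc fun j : r => Formal.smulMod A M (a j)) U (toSec A _ U e) := by
    rw [← kernel.lift_ι (Formal.modPowπ I n M) _ w]
    exact hk.symm
  have hd : biproduct.desc (fun j : r => Formal.smulMod A M (a j)) =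
      ∑ j, biproduct.π (fun _ : r => M) j ≫ Formal.smulMod A M (a j) := by
    classical
    refine biproduct.hom_ext' _ _ fun k => ?_
    rw [biproduct.ι_desc, Preadditive.comp_sum, Finset.sum_eq_single k, biproduct.ι_π_self_assoc]
    · intro j _ hj
      rw [biproduct.ι_π_ne_assoc _ (Ne.symm hj), zero_comp]
    · exact fun h => absurd (Finset.mem_univ k) h
  rw [hx', hd]
  have hsum : ∀ (t : Finset r) (g : r → ((⨁ fun _ : r => M) ⟶ M)) (y : Sec A (⨁ fun _ : r => M) U),
      secMap (A := A) (∑ j ∈ t, g j) U y = ∑ j ∈ t, secMap (g j) U y := fun t g y => by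
    classical
    induction t using Finset.induction_on with
    | empty => rfl
    | @insert j t hj ih =>
      rw [Finset.sum_insert hj, Finset.sum_insert hj, ← ih]
      rfl
  rw [hsum]
  refine Submodule.sum_mem _ fun j _ => ?_
  rw [← secMap_comp, smulMod_app]
  exact Submodule.smul_mem_smul (ha j) Submodule.mem_top

end Ideal

end FormalLib
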