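import Groth.Agent.FormalLib.Geometry
import Groth.Agent.AtlasCohLib.Finiteness
import Mathlib.RingTheory.AdicCompletion.AsTensorProduct

/-!
# The theorem on formal functions
-/

universe u

open CategoryTheory CategoryTheory.Limits AlgebraicGeometry Opposite TopologicalSpace
open GradedCechLib (Sys Cochain rng dd)
open QCohLib (toAbF)

namespace FormalLib

section Algebra

variable {A : Type u} [CommRing A] {κ : Type} [Finite κ] {L : κ → Type u} [∀ k, AddCommGroup (L k)] [∀ k, Module A (L k)]

lemma mem_smul_top_pi (J : Ideal A) (x : ∀ k, L k) (h : ∀ k, x k ∈ (J • ⊤ : Submodule A (L k))) :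
    x ∈ (J • ⊤ : Submodule A (∀ k, L k)) := by
  classical
  have : Fintype κ := Fintype.ofFinite κ
  rw [← Finset.univ_sum_single x]
  exact Submodule.sum_mem _ fun k _ => map_mem_smul_top (LinearMap.single A L k) J (h k)

end Algebra

variable {A : Type u} [CommRing A] {X : Scheme.{u}} [X.Over (Spec (CommRingCat.of A))]

/-- A morphism of modules on cohomology, linearly over `A`. -/
noncomputable def hMapA {M N : X.Modules} (φ : M ⟶ N) (p : ℕ) : Coh.HH X M p →ₗ[A] Coh.HH X N p :=
  AtlasCoh.hLin (X ↘ Spec (CommRingCat.of A)) φ p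

lemma hMapA_apply {M N : X.Modules} (φ : M ⟶ N) (p : ℕ) (x : Coh.HH X M p) :
    hMapA (A := A) φ p x = Sheaf.H.map ((SheafOfModules.toSheaf X.ringCatSheaf).map φ) p x := rfl

lemma hMapA_comp {M N P : X.Modules} (φ : M ⟶ N) (ψ : N ⟶ P) (p : ℕ) (x : Coh.HH X M p) :
    hMapA (A := A) ψ p (hMapA (A := A) φ p x) = hMapA (A := A) (φ ≫ ψ) p x :=
  Formal.HHmap_comp φ ψ p x

lemma modPowπ_completion (I : Ideal A) (M : X.Modules) {n k : ℕ} (h : n ≤ k) :
    Formal.modPowπ I (k + 1) M ≫ (Formal.completion I M).map (homOfLE h).op = Formal.modPowπ I (n + 1) M := by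
  obtain ⟨d, rfl⟩ := Nat.le.dest h
  induction d with
  | zero =>
    show _ ≫ (Formal.completion I M).map (𝟙 (op n)) = _
    rw [CategoryTheory.Functor.map_id]
    exact Category.comp_id _
  | succ d ih =>
    rw [show (homOfLE h).op = (homOfLE (Nat.le_succ (n + d))).op ≫ (homOfLE (Nat.le_add_right n d)).op from
      Subsingleton.elim _ _, Functor.map_comp]
    refine (Category.assoc _ _ _).symm.trans ?_
    refine Eq.trans ?_ (ih (Nat.le_add_right n d))
    refine congrArg (fun t => t ≫ (Formal.completion I M).map (homOfLE (Nat.le_add_right n d)).op) ?_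
    refine Eq.trans (congrArg (fun t => Formal.modPowπ I (n + (d + 1) + 1) M ≫ t)
      (Functor.ofOpSequence_map_homOfLE_succ _ (n + d))) ?_
    exact Formal.modPowπ_trans I (n + d + 1) M

section Proper

variable [IsNoetherianRing A] (I : Ideal A) [IsProper (X ↘ Spec (CommRingCat.of A))]

omit I in
theorem finite_HH (M : X.Modules) (hM : Coh.IsCoh M) (p : ℕ) : Module.Finite A (Coh.HH X M p) :=
  AtlasCoh.finiteCoh_of_isProper (X ↘ Spec (CommRingCat.of A)) M hM p

variable (M : X.Modules) (hM : Coh.IsCoh M)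

/-- The data of a finite affine cover, with classes of cocycles. -/
structure Setup (A : Type u) [CommRing A] (X : Scheme.{u}) [X.Over (Spec (CommRingCat.of A))] where
  m : ℕ
  V : Fin m → X.Opens
  affine : ∀ i, IsAffineOpen (V i)
  caps : ∀ s : Finset (Fin m), s.Nonempty → IsAffineOpen (s.inf V)
  κ : ∀ (N : X.Modules), Coh.IsQCoh N → ∀ p : ℕ, Zc (sysOf A V N) p →ₗ[A] Coh.HH X N p
  surj : ∀ N hN p, Function.Surjective (κ N hN p)
  inj : ∀ N hN, Function.Injective (κ N hN 0)
  kills : ∀ N hN p (z : Zc (sysOf A V N) (p + 1)), κ N hN (p + 1) z = 0 ↔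
    (z : Cochain (sysOf A V N) (p + 1)) ∈ Bc (sysOf A V N) p
  nat : ∀ (N N' : X.Modules) (hN : Coh.IsQCoh N) (hN' : Coh.IsQCoh N') (φ : N ⟶ N') (p : ℕ) (z : Zc (sysOf A V N) p),
    Sheaf.H.map ((SheafOfModules.toSheaf X.ringCatSheaf).map φ) p (κ N hN p z) = κ N' hN' p (zMap (sysMap V φ) p z)

omit I in
theorem exists_setup : Nonempty (Setup A X) := by
  have : CompactSpace X := QuasiCompact.compactSpace_of_compactSpace (X ↘ Spec (CommRingCat.of A))
  have : X.IsSeparated := ⟨by
    rw [← terminal.comp_from (X ↘ Spec (CommRingCat.of A))]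
    infer_instance⟩
  let 𝒰 := X.affineCover.finiteSubcover
  obtain ⟨m, ⟨e⟩⟩ := Finite.exists_equiv_fin 𝒰.I₀
  let V : Fin m → X.Opens := fun i => (𝒰.f (e.symm i)).opensRange
  have hV : ∀ i, IsAffineOpen (V i) := fun i =>
    have : IsAffine (𝒰.X (e.symm i)) := inferInstanceAs (IsAffine (X.affineCover.X _))
    isAffineOpen_opensRange _
  have hU : ⨆ i, V i = ⊤ := top_le_iff.1 (𝒰.iSup_opensRange.ge.trans
    (iSup_le fun j => le_iSup_of_le (e j) (le_of_eq (congrArg (fun t => (𝒰.f t).opensRange) (e.symm_apply_apply j).symm))))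
  obtain ⟨κ, h1, h2, h3, h4⟩ := exists_cls A V hV hU
  refine ⟨⟨m, V, hV, fun s hs => ?_, κ, h1, h2, h3, h4⟩⟩
  induction hs using Finset.Nonempty.cons_induction with
  | singleton a => simpa using hV a
  | cons a s ha hs ih =>
    rw [Finset.inf_cons]
    exact (hV a).inf ih

variable {M} (S : Setup A X)

include hM in
lemma good_obj (s : Finset (Fin S.m)) (hs : s.Nonempty) : Good I ((sysOf A S.V M).obj s) :=
  haveI : Coh.IsQCoh M := hM.1
  good_sec I M hM.2 (S.caps s hs)

include hM in
noncomputable def finiteH : FiniteH (sysOf A S.V M) where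
  T p := Coh.HH X M p
  fin p := finite_HH M hM p
  cls p := S.κ M hM.1 p
  surj p := S.surj M hM.1 p
  kills p z := S.kills M hM.1 p z

include hM in
lemma cochainMap_eq_zero_iff (n p : ℕ) (x : Cochain (sysOf A S.V M) p) :
    cochainMap (sysMap S.V (Formal.modPowπ I n M)) p x = 0 ↔
      x ∈ (I ^ n • ⊤ : Submodule A (Cochain (sysOf A S.V M) p)) := by
  have : Coh.IsQCoh M := hM.1
  constructor
  · intro h
    refine mem_smul_top_pi _ _ fun J => ?_
    exact (ker_secMap_modPowπ M I n (S.caps _ (GradedCechLib.rng_nonempty J))).le (LinearMap.mem_ker.2 (congrFun h J))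
  · intro h
    funext J
    exact secMap_modPowπ_eq_zero M I n _ (map_mem_smul_top (LinearMap.proj J) _ h)

include hM in
lemma cochainMap_surjective (n p : ℕ) : Function.Surjective (cochainMap (sysMap (A := A) S.V (Formal.modPowπ I n M)) p) := by
  intro y
  have : Coh.IsQCoh M := hM.1
  choose x hx using fun J : Fin (p + 1) → Fin S.m =>
    secMap_modPowπ_surjective M I n (S.caps _ (GradedCechLib.rng_nonempty J)) (y J)
  exact ⟨x, funext hx⟩

include hM in
/-- The kernels of `H^p(X, M) → H^p(X, M / I ^ n M)` are adically small. -/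
theorem exists_ker_bound (p : ℕ) : ∃ c : ℕ, ∀ n (x : Coh.HH X M p),
    hMapA (A := A) (Formal.modPowπ I (n + c) M) p x = 0 → x ∈ (I ^ n • ⊤ : Submodule A (Coh.HH X M p)) := by
  obtain ⟨S⟩ := exists_setup (A := A) (X := X)
  have : Coh.IsQCoh M := hM.1
  obtain ⟨c, hc⟩ := exists_cls_mem_smul (good_obj I hM S) (finiteH hM S) p
  refine ⟨c, fun n x hx => ?_⟩
  obtain ⟨z, rfl⟩ := S.surj M hM.1 p x
  have hq := isQCoh_modPow M I (n + c)
  rw [hMapA_apply, S.nat M _ hM.1 hq] at hx
  cases p with
  | zero =>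
    have h0 := congrArg Subtype.val (S.inj _ hq (hx.trans (map_zero _).symm))
    exact hc n z ((cochainMap_eq_zero_iff I hM S _ 0 _).1 h0)
  | succ p =>
    obtain ⟨b, hb⟩ := (S.kills _ hq p _).1 hx
    obtain ⟨b', rfl⟩ := cochainMap_surjective I hM S (n + c) p b
    let w : Zc (sysOf A S.V M) (p + 1) := z - ⟨dd _ p b', dd_dd p b'⟩
    have hw : cochainMap (sysMap S.V (Formal.modPowπ I (n + c) M)) (p + 1) w.1 = 0 := by
      show cochainMap _ (p + 1) (z.1 - dd _ p b') = 0
      rw [map_sub, ← dd_cochainMap, hb]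
      exact sub_self _
    have hb0 : S.κ M hM.1 (p + 1) ⟨dd _ p b', dd_dd p b'⟩ = 0 := (S.kills M hM.1 p _).2 ⟨b', rfl⟩
    have hwz : S.κ M hM.1 (p + 1) w = S.κ M hM.1 (p + 1) z := by rw [map_sub, hb0, sub_zero]
    rw [← hwz]
    exact hc n w ((cochainMap_eq_zero_iff I hM S _ _ _).1 hw)

include hM in
/-- Mittag-Leffler: classes on `M / I ^ k M` come from `M` after passing to `M / I ^ n M`. -/
theorem exists_ml_bound (p : ℕ) : ∃ c : ℕ, ∀ n k (t : Formal.modPow I k M ⟶ Formal.modPow I n M), n + c ≤ k →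
    Formal.modPowπ I k M ≫ t = Formal.modPowπ I n M →
    ∀ y, ∃ x, hMapA (A := A) (Formal.modPowπ I n M) p x = hMapA (A := A) t p y := by
  obtain ⟨S⟩ := exists_setup (A := A) (X := X)
  have : Coh.IsQCoh M := hM.1
  obtain ⟨c, hc⟩ := exists_cocycle_near (good_obj I hM S) (finiteH hM S) p
  refine ⟨c, fun n k t hk ht y => ?_⟩
  have hqk := isQCoh_modPow M I k
  have hqn := isQCoh_modPow M I n
  obtain ⟨z, rfl⟩ := S.surj _ hqk p y
  obtain ⟨x, hx⟩ := cochainMap_surjective I hM S k p z.1
  have hd : dd _ p x ∈ (I ^ (n + c) • ⊤ : Submodule A (Cochain (sysOf A S.V M) (p + 1))) :=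
    pow_smul_mono hk ((cochainMap_eq_zero_iff I hM S k (p + 1) _).1 (by rw [← dd_cochainMap, hx, z.2]))
  obtain ⟨w, hw⟩ := hc n x hd
  refine ⟨S.κ M hM.1 p w, ?_⟩
  rw [hMapA_apply, hMapA_apply, S.nat M _ hM.1 hqn, S.nat _ _ hqk hqn]
  refine congrArg (S.κ _ hqn p) (Subtype.ext ?_)
  show cochainMap (sysMap S.V (Formal.modPowπ I n M)) p w.1 = cochainMap (sysMap S.V t) p z.1
  have h := (cochainMap_eq_zero_iff I hM S n p _).2 hw
  rw [map_sub, sub_eq_zero] at h
  rw [← h, ← hx, ← ht]
  rfl

include hM in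
/-- Kernels of `H^p(I ^ n M) → H^p(M)` die in `H^p(I ^ (n - c) M)`. -/
theorem exists_kernel_stable (p : ℕ) : ∃ c : ℕ, ∀ (n : ℕ) (j : Formal2.idealPowMod I (n + c) M ⟶ Formal2.idealPowMod I n M),
    j ≫ Formal2.idealPowModι I n M = Formal2.idealPowModι I (n + c) M →
    ∀ x, hMapA (A := A) (Formal2.idealPowModι I (n + c) M) p x = 0 → hMapA (A := A) j p x = 0 := by
  obtain ⟨S⟩ := exists_setup (A := A) (X := X)
  have : Coh.IsQCoh M := hM.1
  have hqK : ∀ n, Coh.IsQCoh (Formal2.idealPowMod I n M) := fun n =>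
    have := isQCoh_modPow M I n
    QCohLib.isQCoh_kernel _
  have hinj : ∀ n r, Function.Injective (cochainMap (sysMap (A := A) S.V (Formal2.idealPowModι I n M)) r) :=
    fun n r a b h => funext fun J =>
      QCohLib.app_injective_of_mono (Formal2.idealPowModι I n M) _ (congrFun h J)
  cases p with
  | zero =>
    refine ⟨0, fun n j hj x hx => ?_⟩
    obtain ⟨z, rfl⟩ := S.surj _ (hqK _) 0 x
    rw [hMapA_apply, S.nat _ _ (hqK _) hM.1] at hx
    have h0 : z = 0 := Subtype.ext (hinj (n + 0) 0
      ((congrArg Subtype.val (S.inj _ hM.1 (hx.trans (map_zero _).symm))).trans (map_zero _).symm))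
    rw [h0, map_zero, map_zero]
  | succ p =>
    obtain ⟨c, hc⟩ := exists_cocycle_near (good_obj I hM S) (finiteH hM S) p
    refine ⟨c, fun n j hj x hx => ?_⟩
    obtain ⟨z, rfl⟩ := S.surj _ (hqK _) (p + 1) x
    rw [hMapA_apply, S.nat _ _ (hqK _) hM.1] at hx
    obtain ⟨y, hy⟩ := (S.kills _ hM.1 p _).1 hx
    have hd : dd _ p y ∈ (I ^ (n + c) • ⊤ : Submodule A (Cochain (sysOf A S.V M) (p + 1))) :=
      (cochainMap_eq_zero_iff I hM S _ _ _).1 (by
        rw [hy]
        funext J
        show secMap (Formal.modPowπ I (n + c) M) _ (secMap (Formal2.idealPowModι I (n + c) M) _ (z.1 J)) = 0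
        rw [secMap_comp, kernel.condition]
        rfl)
    obtain ⟨w, hw⟩ := hc n y hd
    have hw0 := (cochainMap_eq_zero_iff I hM S n p _).2 hw
    have hK : (ShortComplex.mk _ _ (kernel.condition (Formal.modPowπ I n M))).Exact :=
      ShortComplex.exact_of_f_is_kernel _ (kernelIsKernel _)
    choose b hb using fun J => QCohLib.exists_of_app_eq_zero hK (inferInstanceAs (Mono (kernel.ι _))) _ (congrFun hw0 J)
    have hb' : cochainMap (sysMap S.V (Formal2.idealPowModι I n M)) p b = y - w.1 := funext hb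
    rw [hMapA_apply, S.nat _ _ (hqK _) (hqK _), S.kills]
    refine ⟨b, hinj n (p + 1) ?_⟩
    rw [← dd_cochainMap, hb', map_sub, w.2, sub_zero, hy]
    funext J
    show secMap (Formal2.idealPowModι I (n + c) M) _ (z.1 J) =
      secMap (Formal2.idealPowModι I n M) _ (secMap j _ (z.1 J))
    rw [secMap_comp, hj]

/-- `H^p(X, M) / I ^ n → H^p(X, M / I ^ n M)`. -/
noncomputable def quotMap (p n : ℕ) :
    Coh.HH X M p ⧸ (I ^ n • ⊤ : Submodule A (Coh.HH X M p)) →ₗ[A] Coh.HH X (Formal.modPow I n M) p :=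
  Submodule.liftQ _ (hMapA (Formal.modPowπ I n M) p) fun x hx => LinearMap.mem_ker.2 <| by
    refine Submodule.smul_induction_on hx (fun a ha y _ => ?_) fun x y hx hy => by rw [map_add, hx, hy, add_zero]
    have h : a • y = hMapA (A := A) (Formal.smulMod A M a) p y := rfl
    rw [h, hMapA_comp, smulMod_modPowπ M I n ha, hMapA_apply]
    exact (congrArg (fun e => Sheaf.H.map e p y) (Functor.map_zero _ _ _)).trans
      ((congrArg (fun e => Abelian.Ext.comp y e (add_zero p)) (Abelian.Ext.mk₀_zero _ _)).trans (Abelian.Ext.comp_zero ..))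

lemma quotMap_mk (p n : ℕ) (x : Coh.HH X M p) :
    quotMap I p n (Submodule.Quotient.mk x) = hMapA (A := A) (Formal.modPowπ I n M) p x := rfl

/-- The comparison of the completion of `H^p(X, M)` with the limit. -/
noncomputable def toLim (p : ℕ) : AdicCompletion I (Coh.HH X M p) →+ Formal.HHlim I M p where
  toFun h := ⟨fun n => quotMap I p (n + 1) (h.val (n + 1)), fun n => by
    obtain ⟨x, hx⟩ := Submodule.Quotient.mk_surjective _ (h.val (n + 1 + 1))
    have h' := h.property (Nat.le_succ (n + 1))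
    rw [← hx] at h'
    show Formal.HHmodPowTrans I M p n (quotMap I p (n + 1 + 1) (h.val (n + 1 + 1))) = quotMap I p (n + 1) (h.val (n + 1))
    rw [← hx, ← h']
    show hMapA (A := A) (Formal.modPowTrans I (n + 1) M) p (hMapA (A := A) (Formal.modPowπ I (n + 1 + 1) M) p x) = _
    rw [hMapA_comp, Formal.modPowπ_trans]
    rfl⟩
  map_zero' := Subtype.ext (funext fun n => map_zero (quotMap I p (n + 1)))
  map_add' x y := Subtype.ext (funext fun n => map_add (quotMap I p (n + 1)) _ _)

lemma toLim_apply (p n : ℕ) (h : AdicCompletion I (Coh.HH X M p)) :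
    (toLim I p h : ∀ n, Formal.HHmodPow I M p n) n = quotMap I p (n + 1) (h.val (n + 1)) := rfl

lemma lim_eq_map (p : ℕ) (y : Formal.HHlim I M p) {n k : ℕ} (h : n ≤ k) :
    hMapA (A := A) ((Formal.completion I M).map (homOfLE h).op) p (y.1 k) = y.1 n := by
  obtain ⟨d, rfl⟩ := Nat.le.dest h
  induction d with
  | zero =>
    show Sheaf.H.map ((SheafOfModules.toSheaf _).map ((Formal.completion I M).map (𝟙 (op n)))) p (y.1 n) = _
    rw [CategoryTheory.Functor.map_id]
    refine (congrArg (fun e => Sheaf.H.map e p (y.1 n))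
      ((SheafOfModules.toSheaf X.ringCatSheaf).map_id ((Formal.completion I M).obj (op n)))).trans ?_
    exact Sheaf.H.map_id_apply _
  | succ d ih =>
    rw [show (homOfLE h).op = (homOfLE (Nat.le_succ (n + d))).op ≫ (homOfLE (Nat.le_add_right n d)).op from
      Subsingleton.elim _ _, Functor.map_comp]
    refine (hMapA_comp _ _ p _).symm.trans (Eq.trans ?_ (ih (Nat.le_add_right n d)))
    refine congrArg _ (Eq.trans ?_ (y.2 (n + d)))
    exact congrArg (fun t => hMapA (A := A) t p (y.1 (n + d + 1))) (Functor.ofOpSequence_map_homOfLE_succ _ (n + d))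

include hM in
theorem toLim_bijective (p : ℕ) : Function.Bijective (toLim (A := A) I (M := M) p) := by
  obtain ⟨c, hc⟩ := exists_ker_bound I hM p
  obtain ⟨c', hc'⟩ := exists_ml_bound I hM p
  refine ⟨(injective_iff_map_eq_zero _).2 fun h hh => AdicCompletion.ext fun n => ?_, fun y => ?_⟩
  · obtain ⟨x, hx⟩ := Submodule.Quotient.mk_surjective _ (h.val (n + c + 1))
    have h' := h.property (show n ≤ n + c + 1 by omega)
    rw [← hx] at h'
    rw [← h']
    show _ = (0 : _ ⧸ _)
    refine (Submodule.Quotient.mk_eq_zero _).2 ?_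
    have h0 : quotMap I p (n + c + 1) (h.val (n + c + 1)) = 0 := congrFun (congrArg Subtype.val hh) (n + c)
    rw [← hx, quotMap_mk] at h0
    refine pow_smul_mono (Nat.le_succ n) (hc (n + 1) x ?_)
    rw [Nat.add_right_comm]
    exact h0
  · have hlift : ∀ n, ∃ x, hMapA (A := A) (Formal.modPowπ I (n + 1) M) p x = y.1 n := fun n => by
      obtain ⟨x, hx⟩ := hc' (n + 1) (n + c' + 1) ((Formal.completion I M).map (homOfLE (Nat.le_add_right n c')).op)
        (by omega) (modPowπ_completion I M _) (y.1 (n + c'))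
      exact ⟨x, hx.trans (lim_eq_map I p y _)⟩
    choose x hx using hlift
    have hstep : ∀ i j, i ≤ j → hMapA (A := A) (Formal.modPowπ I (i + 1) M) p (x j) = y.1 i := fun i j hij => by
      rw [← modPowπ_completion I M hij]
      refine (hMapA_comp (Formal.modPowπ I (j + 1) M) _ p (x j)).symm.trans ?_
      exact (congrArg (hMapA (A := A) ((Formal.completion I M).map (homOfLE hij).op) p) (hx j)).trans (lim_eq_map I p y hij)
    refine ⟨⟨fun i => Submodule.Quotient.mk (x (i + c)), fun {i j} hij => ?_⟩, Subtype.ext (funext fun n => ?_)⟩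
    · show Submodule.Quotient.mk (x (j + c)) = Submodule.Quotient.mk (x (i + c))
      rw [Submodule.Quotient.eq]
      refine pow_smul_mono (Nat.le_succ i) (hc (i + 1) _ ?_)
      rw [map_sub, Nat.add_right_comm, hx, hstep _ _ (Nat.add_le_add_right hij c), sub_self]
    · rw [toLim_apply]
      exact hstep n (n + 1 + c) (by omega)

include hM in
/-- **The theorem on formal functions**, over a complete base. -/
theorem toHHlim_bijective [IsAdicComplete I A] (p : ℕ) : Function.Bijective (Formal.toHHlim I M p) := by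
  have := finite_HH (A := A) M hM p
  have hinj : Function.Injective (AdicCompletion.of I (Coh.HH X M p)) := by
    have : IsHausdorff I (Coh.HH X M p) := ⟨fun x hx => by
      have h := Ideal.iInf_pow_smul_eq_bot_of_le_jacobson (M := Coh.HH X M p) I (IsAdicComplete.le_jacobson_bot I)
      rw [← Submodule.mem_bot (R := A), ← h, Submodule.mem_iInf]
      exact fun i => by simpa [SModEq.zero] using hx i⟩
    exact AdicCompletion.of_injective I _
  have hsurj : Function.Surjective (AdicCompletion.of I (Coh.HH X M p)) := fun h => by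
    obtain ⟨t, rfl⟩ := AdicCompletion.ofTensorProduct_surjective_of_finite I (Coh.HH X M p) h
    induction t using TensorProduct.induction_on with
    | zero => exact ⟨0, by rw [map_zero, map_zero]⟩
    | tmul r x =>
      obtain ⟨a, rfl⟩ := AdicCompletion.of_surjective I A r
      refine ⟨a • x, ?_⟩
      rw [AdicCompletion.ofTensorProduct_tmul, map_smul]
      exact AdicCompletion.ext fun i => rfl
    | add a b ha hb =>
      obtain ⟨u, hu⟩ := ha
      obtain ⟨v, hv⟩ := hb
      exact ⟨u + v, by rw [map_add, map_add, hu, hv]⟩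
  have : Formal.toHHlim I M p = (toLim I p).comp (AdicCompletion.of I (Coh.HH X M p)).toAddMonoidHom :=
    AddMonoidHom.ext fun x => Subtype.ext (funext fun n => rfl)
  rw [this]
  exact (toLim_bijective I hM p).comp ⟨hinj, hsurj⟩

end Proper

end FormalLib
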