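import Groth.Agent.GradedCechLib.CechNatural

/-!
# Classes of Čech cocycles, functorially in the sheaf
-/

universe u

open CategoryTheory CategoryTheory.Limits TopologicalSpace Opposite CategoryTheory.Abelian
open QCohLib (AbSh HU)

namespace FormalLib

variable {X : TopCat.{u}} {ι : Type u} (U : ι → Opens X)

/-- The sequence of discontinuous sections is functorial in the sheaf. -/
noncomputable def gdSeqHom {F G : AbSh X} (g : F ⟶ G) : CechLib.gdSeq F ⟶ CechLib.gdSeq G :=
  ShortComplex.homMk g (GradedCechLib.gdMap g)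
    (cokernel.map (CechLib.gdι F) (CechLib.gdι G) g (GradedCechLib.gdMap g) (GradedCechLib.gdι_gdMap g))
    (GradedCechLib.gdι_gdMap g).symm (cokernel.π_desc _ _ _).symm

theorem extClass_natural {S T : ShortComplex (AbSh X)} (hS : S.ShortExact) (hT : T.ShortExact) {V : Opens X} (φ : S ⟶ T)
    {n m : ℕ} (h : n + 1 = m) (x : HU S.X₃ n V) :
    ((x.comp (Ext.mk₀ φ.τ₃) (add_zero n)).comp hT.extClass h : HU T.X₁ m V) =
      (x.comp hS.extClass h).comp (Ext.mk₀ φ.τ₁) (add_zero m) := by
  subst h
  rw [Ext.comp_assoc_of_second_deg_zero, ← ShortComplex.ShortExact.extClass_naturality hS hT φ,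
    Ext.comp_assoc_of_third_deg_zero]

/-- **Čech cohomology of an acyclic family computes cohomology, functorially.** -/
theorem exists_homology_equiv (p : ℕ) :
    ∃ e : ∀ (F : AbSh X), CechLib.Acyc U F → ((CechLib.cx U F.obj).homology p ≃+ HU F p (⨆ i, U i)),
      ∀ {F G : AbSh X} (hF : CechLib.Acyc U F) (hG : CechLib.Acyc U G) (g : F ⟶ G) (x),
        e G hG (GradedCechLib.hMap U g p x) = (e F hF x).comp (Ext.mk₀ g) (add_zero p) := by
  induction p with
  | zero =>
    refine ⟨fun F _ => (AddEquiv.ofBijective (CechLib.h0Iso U F).hom (CechLib.h0Iso_bijective U F)).symm.trans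
      QCohLib.h0.symm, fun {F G} hF hG g x => ?_⟩
    obtain ⟨s, rfl⟩ := (CechLib.h0Iso_bijective U F).2 x
    have he : ∀ (F : AbSh X) t, ((AddEquiv.ofBijective (CechLib.h0Iso U F).hom (CechLib.h0Iso_bijective U F)).symm.trans
        QCohLib.h0.symm) (CechLib.h0Iso U F t) = QCohLib.h0.symm t := fun F t =>
      congrArg QCohLib.h0.symm ((AddEquiv.ofBijective _ (CechLib.h0Iso_bijective U F)).symm_apply_apply t)
    rw [show GradedCechLib.hMap U g 0 (CechLib.h0Iso U F s) = CechLib.h0Iso U G (g.hom.app (op (⨆ i, U i)) s) from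
      ConcreteCategory.congr_hom (CechLib.h0Iso_natural U g) s, he, he, GradedCechLib.h0_symm_natural]
  | succ p ih =>
    have hS := fun F : AbSh X => CechLib.gdSeq_shortExact F
    have hC := fun (F : AbSh X) (h : CechLib.Acyc U F) => CechLib.cxSeq_shortExact U (hS F) fun n J => h n J 0
    have hnat : ∀ (F G : AbSh X) (hF : CechLib.Acyc U F) (hG : CechLib.Acyc U G) (g : F ⟶ G) (i j : ℕ)
        (hij : (ComplexShape.up ℕ).Rel i j) (z),
        GradedCechLib.hMap U g j ((hC F hF).δ i j hij z) =
          (hC G hG).δ i j hij (GradedCechLib.hMap U (gdSeqHom g).τ₃ i z) := fun F G hF hG g i j hij z =>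
      ConcreteCategory.congr_hom (HomologicalComplex.HomologySequence.δ_naturality
        (GradedCechLib.cxSeqMap U (gdSeqHom g)) (hC F hF) (hC G hG) i j hij) z
    match p with
    | 0 =>
      let δ' := fun F : AbSh X => QCohLib.delta0 (hS F) (⨆ i, U i)
      let ψ : ∀ (F : AbSh X), CechLib.Acyc U F →
          (CechLib.gdSeq F).X₃.obj.obj (op (⨆ i, U i)) →+ (CechLib.cx U F.obj).homology 1 :=
        fun F h => (CechLib.h0Iso U (CechLib.gdSeq F).X₃ ≫ (hC F h).δ 0 1 rfl).hom
      have hψ : ∀ F h, Function.Surjective (ψ F h) := fun F h =>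
        have := (hC F h).epi_δ (i := 0) (j := 1) (hij := rfl) (CechLib.isZero_gd U F 0)
        ((AddCommGrpCat.epi_iff_surjective _).mp this).comp (CechLib.h0Iso_bijective U _).2
      have hker : ∀ F h, (ψ F h).ker = (δ' F).ker := fun F h => by
        ext q
        rw [AddMonoidHom.mem_ker, AddMonoidHom.mem_ker, QCohLib.delta0_eq_zero_iff (hS F)]
        have hn := CechLib.h0Iso_natural U (CechLib.gdSeq F).g
        constructor
        · intro hq
          obtain ⟨z, hz⟩ := (ShortComplex.ab_exact_iff _).mp ((hC F h).homology_exact₃ 0 1 rfl)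
            (CechLib.h0Iso U _ q) hq
          obtain ⟨t, rfl⟩ := (CechLib.h0Iso_bijective U (CechLib.gd F)).2 z
          refine ⟨t, (CechLib.h0Iso_bijective U _).1 ?_⟩
          exact ((ConcreteCategory.congr_hom hn t).symm).trans hz
        · rintro ⟨t, rfl⟩
          have h0 := ConcreteCategory.congr_hom ((hC F h).comp_δ 0 1 rfl) (CechLib.h0Iso U (CechLib.gd F) t)
          exact (congr_arg ((hC F h).δ 0 1 rfl) (ConcreteCategory.congr_hom hn t).symm).trans h0
      let e : ∀ (F : AbSh X), CechLib.Acyc U F → ((CechLib.cx U F.obj).homology 1 ≃+ HU F 1 (⨆ i, U i)) := fun F h =>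
        (QuotientAddGroup.quotientKerEquivOfSurjective (ψ F h) (hψ F h)).symm.trans
          ((QuotientAddGroup.quotientAddEquivOfEq (hker F h)).trans
            (QuotientAddGroup.quotientKerEquivOfSurjective (δ' F) (QCohLib.delta0_surjective (hS F) _)))
      have he : ∀ F h q, e F h (ψ F h q) = δ' F q := fun F h q => by
        have h1 : (QuotientAddGroup.quotientKerEquivOfSurjective (ψ F h) (hψ F h)).symm (ψ F h q) = QuotientAddGroup.mk q :=
          (QuotientAddGroup.quotientKerEquivOfSurjective (ψ F h) (hψ F h)).symm_apply_eq.2 rfl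
        show (QuotientAddGroup.quotientKerEquivOfSurjective (δ' F) (QCohLib.delta0_surjective (hS F) _))
          (QuotientAddGroup.quotientAddEquivOfEq (hker F h)
            ((QuotientAddGroup.quotientKerEquivOfSurjective (ψ F h) (hψ F h)).symm (ψ F h q))) = δ' F q
        rw [h1]
        rfl
      refine ⟨e, fun {F G} hF hG g x => ?_⟩
      obtain ⟨q, rfl⟩ := hψ F hF x
      have h3 := ConcreteCategory.congr_hom (CechLib.h0Iso_natural U (gdSeqHom g).τ₃) q
      have h4 : GradedCechLib.hMap U g 1 (ψ F hF q) = ψ G hG ((gdSeqHom g).τ₃.hom.app (op (⨆ i, U i)) q) :=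
        (hnat F G hF hG g 0 1 rfl _).trans (congrArg ((hC G hG).δ 0 1 rfl) h3)
      rw [h4, he G hG, he F hF]
      show Ext.comp (QCohLib.h0.symm _) (hS G).extClass (zero_add 1) =
        (Ext.comp (QCohLib.h0.symm q) (hS F).extClass (zero_add 1)).comp _ _
      rw [GradedCechLib.h0_symm_natural]
      exact extClass_natural (hS F) (hS G) (gdSeqHom g) (zero_add 1) _
    | p + 1 =>
      obtain ⟨e, he⟩ := ih
      let d := fun (F : AbSh X) (h : CechLib.Acyc U F) => ((hC F h).δIso (p + 1) (p + 2) rfl (CechLib.isZero_gd U F p)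
        (CechLib.isZero_gd U F (p + 1))).addCommGroupIsoToAddEquiv
      let D := fun F : AbSh X => QCohLib.deltaEquiv (hS F) p (⨆ i, U i)
      refine ⟨fun F h => (d F h).symm.trans ((e (CechLib.gdSeq F).X₃ (CechLib.acyc_quotient U h)).trans (D F)),
        fun {F G} hF hG g x => ?_⟩
      obtain ⟨z, rfl⟩ := (d F hF).surjective x
      have h4 : GradedCechLib.hMap U g (p + 2) (d F hF z) = d G hG (GradedCechLib.hMap U (gdSeqHom g).τ₃ (p + 1) z) :=
        hnat F G hF hG g (p + 1) (p + 2) rfl z
      rw [h4]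
      show D G (e _ (CechLib.acyc_quotient U hG) ((d G hG).symm (d G hG (GradedCechLib.hMap U (gdSeqHom g).τ₃ (p + 1) z)))) =
        (D F (e _ (CechLib.acyc_quotient U hF) ((d F hF).symm (d F hF z)))).comp (Ext.mk₀ g) (add_zero _)
      refine ((congrArg (fun w => D G (e _ (CechLib.acyc_quotient U hG) w)) ((d G hG).symm_apply_apply _)).trans
        ((congrArg (D G) (he (CechLib.acyc_quotient U hF) (CechLib.acyc_quotient U hG) _ z)).trans ?_)).trans
        (congrArg (fun w => (D F (e _ (CechLib.acyc_quotient U hF) w)).comp (Ext.mk₀ g) (add_zero _))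
          ((d F hF).symm_apply_apply z)).symm
      exact extClass_natural (hS F) (hS G) (gdSeqHom g) rfl (e _ (CechLib.acyc_quotient U hF) z)

/-- Cocycles. -/
noncomputable abbrev cocycles (P : (Opens X)ᵒᵖ ⥤ AddCommGrpCat.{u}) (p : ℕ) : AddSubgroup (CechLib.Cochain U P p) :=
  (CechLib.dd U P p).ker

section Class

variable {P Q : (Opens X)ᵒᵖ ⥤ AddCommGrpCat.{u}}

/-- Cocycles as a map into cochains of the complex. -/
noncomputable def cocycleHom (P : (Opens X)ᵒᵖ ⥤ AddCommGrpCat.{u}) (p : ℕ) :
    AddCommGrpCat.of (cocycles U P p) ⟶ (CechLib.cx U P).X p :=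
  AddCommGrpCat.ofHom ((CechLib.cochainEquiv U P p).symm.toAddMonoidHom.comp (cocycles U P p).subtype)

lemma cochainEquiv_cocycleHom (p : ℕ) (z : cocycles U P p) :
    CechLib.cochainEquiv U P p (cocycleHom U P p z) = z :=
  (CechLib.cochainEquiv U P p).apply_symm_apply _

lemma cocycleHom_d (p : ℕ) : cocycleHom U P p ≫ (CechLib.cx U P).d p (p + 1) = 0 := by
  refine ConcreteCategory.hom_ext _ _ fun z => ?_
  rw [ConcreteCategory.comp_apply]
  apply (CechLib.cochainEquiv U P (p + 1)).injective
  refine (CechLib.ev_d U P p (cocycleHom U P p z)).trans ?_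
  refine ((congrArg (CechLib.dd U P p) (cochainEquiv_cocycleHom U p z)).trans z.2).trans ?_
  exact (map_zero (CechLib.cochainEquiv U P (p + 1))).symm

/-- Cocycles as cycles of the complex. -/
noncomputable def cocycleCyc (P : (Opens X)ᵒᵖ ⥤ AddCommGrpCat.{u}) (p : ℕ) :
    AddCommGrpCat.of (cocycles U P p) ⟶ (CechLib.cx U P).cycles p :=
  (CechLib.cx U P).liftCycles (cocycleHom U P p) (p + 1) (by simp) (cocycleHom_d U p)

lemma iCycles_cocycleCyc (p : ℕ) (z : cocycles U P p) :
    (CechLib.cx U P).iCycles p (cocycleCyc U P p z) = cocycleHom U P p z := by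
  rw [cocycleCyc, ← ConcreteCategory.comp_apply, HomologicalComplex.liftCycles_i]

lemma iCycles_injective (p : ℕ) : Function.Injective ((CechLib.cx U P).iCycles p) :=
  (AddCommGrpCat.mono_iff_injective _).1 inferInstance

lemma cocycleCyc_surjective (p : ℕ) : Function.Surjective (cocycleCyc U P p) := fun y => by
  refine ⟨⟨CechLib.cochainEquiv U P p ((CechLib.cx U P).iCycles p y), ?_⟩, iCycles_injective U p ?_⟩
  · rw [AddMonoidHom.mem_ker, ← CechLib.ev_d]
    exact (congrArg _ (ConcreteCategory.congr_hom ((CechLib.cx U P).iCycles_d p (p + 1)) y)).trans (map_zero _)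
  · rw [iCycles_cocycleCyc]
    exact (CechLib.cochainEquiv U P p).symm_apply_apply _

/-- The class of a cocycle in the homology of the complex. -/
noncomputable def homClass (P : (Opens X)ᵒᵖ ⥤ AddCommGrpCat.{u}) (p : ℕ) : cocycles U P p →+ (CechLib.cx U P).homology p :=
  (cocycleCyc U P p ≫ (CechLib.cx U P).homologyπ p).hom

lemma homClass_surjective (p : ℕ) : Function.Surjective (homClass U P p) :=
  ((AddCommGrpCat.epi_iff_surjective _).1 inferInstance : Function.Surjective ((CechLib.cx U P).homologyπ p)).comp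
    (cocycleCyc_surjective U p)

lemma homClass_eq_zero_iff (p : ℕ) (z : cocycles U P (p + 1)) :
    homClass U P (p + 1) z = 0 ↔ ∃ b, CechLib.dd U P p b = z := by
  have hex := (ShortComplex.ab_exact_iff _).1 (ShortComplex.exact_of_g_is_cokernel
    (ShortComplex.mk _ _ ((CechLib.cx U P).toCycles_comp_homologyπ p (p + 1)))
    ((CechLib.cx U P).homologyIsCokernel p (p + 1) (by simp)))
  constructor
  · intro h
    obtain ⟨b, hb⟩ := hex (cocycleCyc U P (p + 1) z) h
    refine ⟨CechLib.cochainEquiv U P p b, ?_⟩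
    rw [← CechLib.ev_d, ← cochainEquiv_cocycleHom, ← iCycles_cocycleCyc, ← hb]
    exact congrArg _ (ConcreteCategory.congr_hom ((CechLib.cx U P).toCycles_i p (p + 1)) b).symm
  · rintro ⟨b, hb⟩
    have h : cocycleCyc U P (p + 1) z = (CechLib.cx U P).toCycles p (p + 1) ((CechLib.cochainEquiv U P p).symm b) := by
      apply iCycles_injective U (p + 1)
      rw [iCycles_cocycleCyc]
      refine Eq.trans ?_ (ConcreteCategory.congr_hom ((CechLib.cx U P).toCycles_i p (p + 1)) _).symm
      apply (CechLib.cochainEquiv U P (p + 1)).injective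
      rw [cochainEquiv_cocycleHom, CechLib.ev_d, AddEquiv.apply_symm_apply, hb]
    show (CechLib.cx U P).homologyπ (p + 1) (cocycleCyc U P (p + 1) z) = 0
    rw [h]
    exact ConcreteCategory.congr_hom ((CechLib.cx U P).toCycles_comp_homologyπ p (p + 1)) _

lemma homClass_apply (p : ℕ) (z : cocycles U P p) :
    homClass U P p z = (CechLib.cx U P).homologyπ p (cocycleCyc U P p z) := by
  rw [← ConcreteCategory.comp_apply]
  rfl

lemma homClass_map (φ : P ⟶ Q) (p : ℕ) (z : cocycles U P p) (w : cocycles U Q p)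
    (h : ∀ J, (w : CechLib.Cochain U Q p) J = φ.app (op (CechLib.cap U J)) ((z : CechLib.Cochain U P p) J)) :
    HomologicalComplex.homologyMap ((cechComplexFunctor U).map φ) p (homClass U P p z) = homClass U Q p w := by
  rw [homClass_apply, homClass_apply, ← ConcreteCategory.comp_apply, HomologicalComplex.homologyπ_naturality,
    ConcreteCategory.comp_apply]
  refine congrArg _ (iCycles_injective U p ?_)
  rw [← ConcreteCategory.comp_apply, HomologicalComplex.cyclesMap_i, ConcreteCategory.comp_apply,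
    iCycles_cocycleCyc, iCycles_cocycleCyc]
  apply (CechLib.cochainEquiv U Q p).injective
  funext J
  rw [CechLib.cochainEquiv_map, cochainEquiv_cocycleHom, cochainEquiv_cocycleHom, h]

lemma homClass_injective_zero : Function.Injective (homClass U P 0) := by
  rw [injective_iff_map_eq_zero]
  intro z hz
  have h1 : Function.Injective ((CechLib.cx U P).homologyπ 0) :=
    haveI := (CechLib.cx U P).isIso_homologyπ 0 0 (by simp) (by simp)
    (ConcreteCategory.bijective_of_isIso _).1
  rw [homClass_apply] at hz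
  have h2 : cocycleCyc U P 0 z = 0 := h1 (hz.trans (map_zero _).symm)
  have h3 := congrArg (CechLib.cochainEquiv U P 0) ((congrArg ((CechLib.cx U P).iCycles 0) h2).trans (map_zero _))
  rw [iCycles_cocycleCyc, cochainEquiv_cocycleHom, map_zero] at h3
  exact Subtype.ext h3

end Class

end FormalLib
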