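import Groth.Agent.FormalLib.Systems
import Groth.Agent.FormalLib.CechNat
import Groth.Agent.FormalLib.ModPow
import Groth.Agent.QCohLib.AffineFinite

/-!
# The Čech system of a quasi-coherent module on a finite affine cover
-/

universe u

open CategoryTheory CategoryTheory.Limits AlgebraicGeometry Opposite TopologicalSpace
open GradedCechLib (Sys Cochain rng)
open QCohLib (AbSh HU toAbF)

namespace FormalLib

variable {A : Type u} [CommRing A] {X : Scheme.{u}} [X.Over (Spec (CommRingCat.of A))]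
variable {m : ℕ} (V : Fin m → X.Opens)

variable (A) in
/-- The system of sections on the intersections. -/
noncomputable def sysOf (N : X.Modules) : Sys A (Fin m) where
  obj s := ModuleCat.of A (Sec A N (s.inf V))
  map {s t} f := ModuleCat.ofHom (secRes N (Finset.inf_mono (leOfHom f)))
  map_id s := ModuleCat.hom_ext (LinearMap.ext fun x => by
    show N.presheaf.map (𝟙 (op (s.inf V))) x = x
    simp)
  map_comp {s t r} f g := ModuleCat.hom_ext (LinearMap.ext fun x => by
    show N.presheaf.map (homOfLE _).op x = N.presheaf.map (homOfLE _).op (N.presheaf.map (homOfLE _).op x)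
    rw [← ConcreteCategory.comp_apply, ← Functor.map_comp]
    rfl)

/-- Functoriality of the system. -/
noncomputable def sysMap {N N' : X.Modules} (φ : N ⟶ N') : sysOf A V N ⟶ sysOf A V N' where
  app s := ModuleCat.ofHom (secMap φ (s.inf V))
  naturality {s t} f := ModuleCat.hom_ext (LinearMap.ext fun x => QCohLib.app_map φ (homOfLE _) x)

/-- The cover as a family in the universe of `X`. -/
abbrev ulCover : ULift.{u} (Fin m) → Opens X.toTopCat := fun i => V i.down

lemma cap_ulCover {p : ℕ} (K : Fin (p + 1) → ULift.{u} (Fin m)) :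
    CechLib.cap (ulCover V) K = (rng fun a => (K a).down).inf V := by
  refine le_antisymm (Finset.le_inf fun i hi => ?_) ((CechLib.le_cap_iff _).2 fun a => ?_)
  · obtain ⟨a, -, rfl⟩ := Finset.mem_image.1 hi
    exact CechLib.cap_le (ulCover V) K a
  · exact Finset.inf_le (Finset.mem_image_of_mem _ (Finset.mem_univ a))

/-- Cochains of the system are Čech cochains. -/
noncomputable def cochainIso (N : X.Modules) (p : ℕ) :
    Cochain (sysOf A V N) p ≃+ CechLib.Cochain (ulCover V) (Coh.toAb N).obj p where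
  toFun c K := CechLib.rs (Coh.toAb N).obj (cap_ulCover V K).le (c fun a => (K a).down)
  invFun c J := CechLib.rs (Coh.toAb N).obj (cap_ulCover V fun a => ULift.up (J a)).ge (c fun a => ULift.up (J a))
  left_inv c := funext fun J => (CechLib.rs_rs (Coh.toAb N).obj _ _ _).trans (CechLib.rs_self _ _)
  right_inv c := funext fun K => (CechLib.rs_rs (Coh.toAb N).obj _ _ _).trans (CechLib.rs_self _ _)
  map_add' c c' := funext fun K => map_add (CechLib.rs (Coh.toAb N).obj _) _ _

lemma cochainIso_dd (N : X.Modules) (p : ℕ) (c : Cochain (sysOf A V N) p) :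
    CechLib.dd (ulCover V) (Coh.toAb N).obj p (cochainIso V N p c) =
      cochainIso V N (p + 1) (GradedCechLib.dd (sysOf A V N) p c) := by
  funext K
  show _ = CechLib.rs (Coh.toAb N).obj _ (GradedCechLib.dd (sysOf A V N) p c fun a => (K a).down)
  rw [CechLib.dd_apply, GradedCechLib.dd_apply]
  refine Eq.trans ?_ (map_sum (CechLib.rs (Coh.toAb N).obj (cap_ulCover V K).le) _ _).symm
  refine Finset.sum_congr rfl fun k _ => ?_
  refine Eq.trans ?_ (map_zsmul (CechLib.rs (Coh.toAb N).obj (cap_ulCover V K).le) _ _).symm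
  refine congrArg (fun x => ((-1 : ℤ) ^ (k : ℕ)) • x) ?_
  exact (CechLib.rs_rs (Coh.toAb N).obj _ _ _).trans (CechLib.rs_rs (Coh.toAb N).obj _ _ _).symm

/-- Cocycles of the system are Čech cocycles. -/
noncomputable def cocycleIso (N : X.Modules) (p : ℕ) :
    Zc (sysOf A V N) p →+ cocycles (ulCover V) (Coh.toAb N).obj p :=
  ((cochainIso V N p).toAddMonoidHom.comp (Zc (sysOf A V N) p).subtype.toAddMonoidHom).codRestrict _ fun z => by
    show CechLib.dd (ulCover V) (Coh.toAb N).obj p (cochainIso V N p (z : Cochain (sysOf A V N) p)) = 0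
    rw [cochainIso_dd, LinearMap.mem_ker.1 z.2, map_zero]

lemma cocycleIso_surjective (N : X.Modules) (p : ℕ) : Function.Surjective (cocycleIso (A := A) V N p) := fun z => by
  refine ⟨⟨(cochainIso (A := A) V N p).symm z, ?_⟩, Subtype.ext ((cochainIso (A := A) V N p).apply_symm_apply _)⟩
  rw [LinearMap.mem_ker]
  apply (cochainIso V N (p + 1)).injective
  rw [← cochainIso_dd, AddEquiv.apply_symm_apply, map_zero]
  exact z.2

variable (A) in
/-- **Classes of cocycles.** -/
theorem exists_cls [X.IsSeparated] (hV : ∀ i, IsAffineOpen (V i)) (hU : ⨆ i, V i = ⊤) :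
    ∃ κ : ∀ (N : X.Modules), Coh.IsQCoh N → ∀ p : ℕ, Zc (sysOf A V N) p →ₗ[A] Coh.HH X N p,
      (∀ N hN p, Function.Surjective (κ N hN p)) ∧ (∀ N hN, Function.Injective (κ N hN 0)) ∧
      (∀ N hN p (z : Zc (sysOf A V N) (p + 1)), κ N hN (p + 1) z = 0 ↔
        (z : Cochain (sysOf A V N) (p + 1)) ∈ Bc (sysOf A V N) p) ∧
      ∀ (N N' : X.Modules) (hN : Coh.IsQCoh N) (hN' : Coh.IsQCoh N') (φ : N ⟶ N') (p : ℕ) (z : Zc (sysOf A V N) p),
        Sheaf.H.map ((SheafOfModules.toSheaf X.ringCatSheaf).map φ) p (κ N hN p z) =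
          κ N' hN' p (zMap (sysMap V φ) p z) := by
  have hcap : ∀ {p : ℕ} (K : Fin (p + 1) → ULift.{u} (Fin m)), IsAffineOpen (X := X) (CechLib.cap (ulCover V) K) :=
    fun K => IsAffineOpen.iInf fun a => hV (K a).down
  have hacyc : ∀ N : X.Modules, Coh.IsQCoh N → CechLib.Acyc (ulCover V) ((toAbF X).obj N) :=
    fun N hN n K q => QCohLib.subsingleton_HU_affine N q (hcap K)
  have htop : (⨆ i, ulCover V i) = (⊤ : Opens X.toTopCat) :=
    top_le_iff.1 fun x _ => by
      obtain ⟨i, hi⟩ := Opens.mem_iSup.1 (hU.ge (Opens.mem_top x))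
      exact Opens.mem_iSup.2 ⟨⟨i⟩, hi⟩
  have hcast : ∀ W : Opens X.toTopCat, (⨆ i, ulCover V i) = W → ∀ p : ℕ,
      ∃ e : ∀ (F : AbSh X.toTopCat), CechLib.Acyc (ulCover V) F →
          ((CechLib.cx (ulCover V) F.obj).homology p ≃+ HU F p W),
        ∀ {F G : AbSh X.toTopCat} (hF : CechLib.Acyc (ulCover V) F) (hG : CechLib.Acyc (ulCover V) G) (g : F ⟶ G) (x),
          e G hG (GradedCechLib.hMap (ulCover V) g p x) = (e F hF x).comp (Abelian.Ext.mk₀ g) (add_zero p) := by
    rintro W rfl p
    exact exists_homology_equiv (ulCover V) p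
  choose e he using hcast ⊤ htop
  let κ₀ : ∀ (N : X.Modules), Coh.IsQCoh N → ∀ p : ℕ, Zc (sysOf A V N) p →+ Coh.HH X N p := fun N hN p =>
    (((e p (Coh.toAb N) (hacyc N hN)).trans (QCohLib.hEquiv (Coh.toAb N) p).symm).toAddMonoidHom).comp
      ((homClass (ulCover V) (Coh.toAb N).obj p).comp (cocycleIso V N p))
  have hnat : ∀ (N N' : X.Modules) (hN : Coh.IsQCoh N) (hN' : Coh.IsQCoh N') (φ : N ⟶ N') (p : ℕ)
      (z : Zc (sysOf A V N) p),
      Sheaf.H.map ((SheafOfModules.toSheaf X.ringCatSheaf).map φ) p (κ₀ N hN p z) =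
        κ₀ N' hN' p (zMap (sysMap V φ) p z) := fun N N' hN hN' φ p z => by
    apply (QCohLib.hEquiv (Coh.toAb N') p).injective
    refine (QCohLib.hEquiv_map _ p _).trans ?_
    show (QCohLib.hEquiv (Coh.toAb N) p ((QCohLib.hEquiv (Coh.toAb N) p).symm (e p (Coh.toAb N) (hacyc N hN)
      (homClass (ulCover V) (Coh.toAb N).obj p (cocycleIso V N p z))))).comp _ _ =
      QCohLib.hEquiv (Coh.toAb N') p ((QCohLib.hEquiv (Coh.toAb N') p).symm (e p (Coh.toAb N') (hacyc N' hN')
        (homClass (ulCover V) (Coh.toAb N').obj p (cocycleIso V N' p (zMap (sysMap V φ) p z)))))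
    rw [AddEquiv.apply_symm_apply, AddEquiv.apply_symm_apply]
    refine (he p (hacyc N hN) (hacyc N' hN') ((SheafOfModules.toSheaf X.ringCatSheaf).map φ) _).symm.trans ?_
    refine congrArg (e p (Coh.toAb N') (hacyc N' hN')) ?_
    refine homClass_map (ulCover V) ((SheafOfModules.toSheaf X.ringCatSheaf).map φ).hom p _ _ fun K => ?_
    exact (QCohLib.app_map φ (homOfLE (cap_ulCover V K).le)
      ((z : Cochain (sysOf A V N) p) fun a => (K a).down)).symm
  let κ : ∀ (N : X.Modules), Coh.IsQCoh N → ∀ p : ℕ, Zc (sysOf A V N) p →ₗ[A] Coh.HH X N p := fun N hN p =>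
    { κ₀ N hN p with
      map_smul' := fun a z => by
        show κ₀ N hN p (a • z) = a • κ₀ N hN p z
        have hz : a • z = zMap (sysMap V (Formal.smulMod A N a)) p z := Subtype.ext (funext fun J => rfl)
        rw [hz, ← hnat N N hN hN (Formal.smulMod A N a) p z]
        rfl }
  have happly : ∀ N hN p z, κ N hN p z = (QCohLib.hEquiv (Coh.toAb N) p).symm (e p (Coh.toAb N) (hacyc N hN)
      (homClass (ulCover V) (Coh.toAb N).obj p (cocycleIso V N p z))) := fun _ _ _ _ => rfl
  refine ⟨κ, fun N hN p y => ?_, fun N hN z w h => ?_, fun N hN p z => ?_, hnat⟩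
  · obtain ⟨w, hw⟩ := homClass_surjective (ulCover V) p
      ((e p (Coh.toAb N) (hacyc N hN)).symm (QCohLib.hEquiv (Coh.toAb N) p y))
    obtain ⟨z, rfl⟩ := cocycleIso_surjective (A := A) V N p w
    exact ⟨z, by rw [happly N hN, hw, AddEquiv.apply_symm_apply, AddEquiv.symm_apply_apply]⟩
  · rw [happly N hN, happly N hN] at h
    have h' := homClass_injective_zero (ulCover V) (((e 0 (Coh.toAb N) (hacyc N hN))).injective ((QCohLib.hEquiv (Coh.toAb N) 0).symm.injective h))
    exact Subtype.ext ((cochainIso V N 0).injective (congrArg Subtype.val h'))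
  · rw [happly N hN, AddEquiv.map_eq_zero_iff, AddEquiv.map_eq_zero_iff, homClass_eq_zero_iff]
    constructor
    · rintro ⟨b, hb⟩
      refine ⟨(cochainIso V N p).symm b, (cochainIso V N (p + 1)).injective ?_⟩
      rw [← cochainIso_dd, AddEquiv.apply_symm_apply, hb]
      rfl
    · rintro ⟨b, hb⟩
      exact ⟨cochainIso V N p b, (cochainIso_dd V N p b).trans (congrArg (cochainIso V N (p + 1)) hb)⟩

variable [IsNoetherianRing A]

/-- Sections of a coherent module on affine opens are good. -/
theorem good_sec [LocallyOfFiniteType (X ↘ Spec (CommRingCat.of A))] (I : Ideal A) (N : X.Modules) [Coh.IsQCoh N]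
    (hN : CohB1.IsFT N) {U : X.Opens} (hU : IsAffineOpen U) : Good I (Sec A N U) := by
  let f : X ⟶ Spec (CommRingCat.of A) := X ↘ Spec (CommRingCat.of A)
  let _ : Algebra A Γ(X, U) := (rhoA A U).toAlgebra
  have hft : (Scheme.Hom.appLE f ⊤ U le_top).hom.FiniteType :=
    Scheme.Hom.finiteType_appLE f (isAffineOpen_top _) hU le_top
  have heq : rhoA A U = (Scheme.Hom.appLE f ⊤ U le_top).hom.comp (Scheme.ΓSpecIso (CommRingCat.of A)).inv.hom := rfl
  have : Algebra.FiniteType A Γ(X, U) := by
    show (rhoA A U).FiniteType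
    rw [heq]
    exact hft.comp (RingHom.FiniteType.of_surjective _
      (ConcreteCategory.bijective_of_isIso (Scheme.ΓSpecIso (CommRingCat.of A)).inv).2)
  let _ : Module Γ(X, U) (Sec A N U) := inferInstanceAs (Module Γ(X, U) Γ(N, U))
  have : IsScalarTower A Γ(X, U) (Sec A N U) := IsScalarTower.of_algebraMap_smul fun _ _ => rfl
  have : Module.Finite Γ(X, U) (Sec A N U) := QCohLib.finite_of_isFT hN hU
  exact good_of_finite Γ(X, U) (Sec A N U)

end FormalLib
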