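import Mathlib.RingTheory.Filtration
import Mathlib.RingTheory.FiniteType
import Mathlib.RingTheory.Finiteness.Basic
import Mathlib.Algebra.Module.Projective

/-!
# Artin–Rees modules

For an ideal `I` of `A`, an `A`-module is *good* if all its iterated syzygies by projective modules satisfy the
Artin–Rees inclusion `I ^ (n + c) F ∩ N ⊆ I ^ n N` for some `c`. (This says that the pro-systems
`Tor_i (A / I ^ n, -)`, `i ≥ 1`, vanish.) Kernels of surjections between good modules, extensions, and finite modules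
over finitely generated algebras over a Noetherian ring are good.
-/

universe u

namespace FormalLib

variable {A : Type u} [CommRing A] (I : Ideal A)

/-- The Artin–Rees inclusion for the kernel of a map. -/
def ARMap {F Z : Type u} [AddCommGroup F] [Module A F] [AddCommGroup Z] [Module A Z] (q : F →ₗ[A] Z) : Prop :=
  ∃ c : ℕ, ∀ n, ∀ x ∈ (I ^ (n + c) • ⊤ : Submodule A F), q x = 0 → x ∈ I ^ n • LinearMap.ker q

/-- Good modules up to level `i`. -/
def GoodN : ℕ → ∀ (Z : Type u) [AddCommGroup Z] [Module A Z], Prop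
  | 0, Z, _, _ => ∀ (F : Type u) [AddCommGroup F] [Module A F] [Module.Projective A F] (q : F →ₗ[A] Z),
      Function.Surjective q → ARMap I q
  | i + 1, Z, _, _ => ∀ (F : Type u) [AddCommGroup F] [Module A F] [Module.Projective A F] (q : F →ₗ[A] Z),
      Function.Surjective q → ARMap I q ∧ GoodN i (LinearMap.ker q)

/-- Good modules. -/
def Good (Z : Type u) [AddCommGroup Z] [Module A Z] : Prop := ∀ i, GoodN I i Z

variable {I}

lemma exists_proj_surj (Z : Type u) [AddCommGroup Z] [Module A Z] :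
    ∃ q : (Z →₀ A) →ₗ[A] Z, Function.Surjective q :=
  ⟨Finsupp.linearCombination A id, fun z => ⟨Finsupp.single z 1, by simp⟩⟩

lemma GoodN.zero_of : ∀ {i : ℕ} {Z : Type u} [AddCommGroup Z] [Module A Z], GoodN I i Z → GoodN I 0 Z
  | 0, _, _, _, h => h
  | _ + 1, _, _, _, h => fun F _ _ _ q hq => (h F q hq).1

section Step

variable {F G W Z : Type u} [AddCommGroup F] [Module A F] [AddCommGroup G] [Module A G] [AddCommGroup W] [Module A W]
  [AddCommGroup Z] [Module A Z]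

lemma mem_smul_of_map {N : Submodule A F} (f : G →ₗ[A] F) {M : Submodule A G} (h : ∀ x ∈ M, f x ∈ N) (J : Ideal A)
    {x : G} (hx : x ∈ J • M) : f x ∈ J • N := by
  have h1 : Submodule.map f (J • M) ≤ J • N := by
    rw [Submodule.map_smul'']
    exact Submodule.smul_mono le_rfl (Submodule.map_le_iff_le_comap.2 h)
  exact h1 (Submodule.mem_map_of_mem hx)

lemma map_mem_smul_top (f : G →ₗ[A] F) (J : Ideal A) {x : G} (hx : x ∈ J • (⊤ : Submodule A G)) :
    f x ∈ J • (⊤ : Submodule A F) :=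
  mem_smul_of_map f (fun _ _ => Submodule.mem_top) J hx

lemma pow_smul_mono {M : Submodule A F} {m n : ℕ} (h : n ≤ m) : I ^ m • M ≤ I ^ n • M :=
  Submodule.smul_mono_left (Ideal.pow_le_pow_right h)

/-- Comparing presentations along a retraction. -/
lemma step {p : G →ₗ[A] W} (hp : Function.Surjective p) [Module.Projective A G] [Module.Projective A F]
    {q : F →ₗ[A] Z} (hq : Function.Surjective q) (s : Z →ₗ[A] W) (r : W →ₗ[A] Z) (hrs : ∀ z, r (s z) = z) :
    (ARMap I p → ARMap I q) ∧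
      ∃ (s' : LinearMap.ker q →ₗ[A] LinearMap.ker p × F) (r' : LinearMap.ker p × F →ₗ[A] LinearMap.ker q),
        ∀ x, r' (s' x) = x := by
  obtain ⟨α, hα⟩ := Module.projective_lifting_property p (s.comp q) hp
  obtain ⟨β, hβ⟩ := Module.projective_lifting_property q (r.comp p) hq
  have hα' : ∀ x, p (α x) = s (q x) := LinearMap.congr_fun hα
  have hβ' : ∀ x, q (β x) = r (p x) := LinearMap.congr_fun hβ
  have hαker : ∀ x ∈ LinearMap.ker q, α x ∈ LinearMap.ker p := fun x hx => by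
    rw [LinearMap.mem_ker, hα', LinearMap.mem_ker.1 hx, map_zero]
  have hβker : ∀ x ∈ LinearMap.ker p, β x ∈ LinearMap.ker q := fun x hx => by
    rw [LinearMap.mem_ker, hβ', LinearMap.mem_ker.1 hx, map_zero]
  let δ : F →ₗ[A] LinearMap.ker q := LinearMap.codRestrict _ (LinearMap.id - β.comp α) fun x => by
    rw [LinearMap.mem_ker, LinearMap.sub_apply, LinearMap.id_apply, map_sub, LinearMap.comp_apply, hβ', hα', hrs,
      sub_self]
  refine ⟨fun ⟨c, hc⟩ => ⟨c, fun n x hx hqx => ?_⟩,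
    ⟨(α.restrict hαker).prod (LinearMap.ker q).subtype, (β.restrict hβker).coprod δ, fun x => ?_⟩⟩
  · have h1 : α x ∈ I ^ n • LinearMap.ker p := hc n (α x) (map_mem_smul_top α _ hx) (hαker x hqx)
    have h2 : x = β (α x) + (δ x : F) := (add_sub_cancel (β (α x)) x).symm
    rw [h2]
    refine add_mem (mem_smul_of_map β hβker _ h1) ?_
    exact mem_smul_of_map (LinearMap.ker q).subtype (fun z _ => z.2) _
      (pow_smul_mono (Nat.le_add_right n c) (map_mem_smul_top δ _ hx))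
  · apply Subtype.ext
    show β (α (x : F)) + ((x : F) - β (α (x : F))) = x
    exact add_sub_cancel _ _

/-- `p × id` presents `W × P` with the same kernel. -/
lemma prodMap_id {p : G →ₗ[A] W} (hp : Function.Surjective p) (P : Type u) [AddCommGroup P] [Module A P] :
    Function.Surjective (p.prodMap (LinearMap.id : P →ₗ[A] P)) ∧
      (ARMap I p → ARMap I (p.prodMap (LinearMap.id : P →ₗ[A] P))) ∧
      ∃ (s : LinearMap.ker (p.prodMap (LinearMap.id : P →ₗ[A] P)) →ₗ[A] LinearMap.ker p)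
        (r : LinearMap.ker p →ₗ[A] LinearMap.ker (p.prodMap (LinearMap.id : P →ₗ[A] P))), ∀ x, r (s x) = x := by
  have hinl : ∀ z ∈ LinearMap.ker p, LinearMap.inl A G P z ∈ LinearMap.ker (p.prodMap (LinearMap.id : P →ₗ[A] P)) :=
    fun z hz => LinearMap.mem_ker.2 (Prod.ext (LinearMap.mem_ker.1 hz) rfl)
  have hfst : ∀ x ∈ LinearMap.ker (p.prodMap (LinearMap.id : P →ₗ[A] P)),
      LinearMap.fst A G P x ∈ LinearMap.ker p := fun x hx => LinearMap.mem_ker.2 (congrArg Prod.fst (LinearMap.mem_ker.1 hx) : _)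
  have hsnd : ∀ x ∈ LinearMap.ker (p.prodMap (LinearMap.id : P →ₗ[A] P)), x.2 = 0 :=
    fun x hx => (congrArg Prod.snd (LinearMap.mem_ker.1 hx) : _)
  refine ⟨fun y => ⟨((hp y.1).choose, y.2), Prod.ext (hp y.1).choose_spec rfl⟩, fun ⟨c, hc⟩ => ⟨c, fun n x hx hx0 => ?_⟩,
    (LinearMap.fst A G P).restrict hfst, (LinearMap.inl A G P).restrict hinl,
    fun x => Subtype.ext (Prod.ext rfl (hsnd x.1 x.2).symm)⟩
  have h1 : x.1 ∈ I ^ n • LinearMap.ker p :=
    hc n x.1 (map_mem_smul_top (LinearMap.fst A G P) _ hx) (hfst x hx0)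
  rw [show x = LinearMap.inl A G P x.1 from Prod.ext rfl (hsnd x hx0)]
  exact mem_smul_of_map (LinearMap.inl A G P) hinl _ h1

end Step

theorem retract_and_prod (i : ℕ) :
    (∀ {W Z : Type u} [AddCommGroup W] [Module A W] [AddCommGroup Z] [Module A Z] (s : Z →ₗ[A] W) (r : W →ₗ[A] Z),
      (∀ z, r (s z) = z) → GoodN I i W → GoodN I i Z) ∧
    (∀ {Z P : Type u} [AddCommGroup Z] [Module A Z] [AddCommGroup P] [Module A P] [Module.Projective A P],
      GoodN I i Z → GoodN I i (Z × P)) := by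
  induction i with
  | zero =>
    refine ⟨fun {W Z} _ _ _ _ s r hrs hW F _ _ _ q hq => ?_, fun {Z P} _ _ _ _ _ hZ F _ _ _ q hq => ?_⟩
    · obtain ⟨p, hp⟩ := exists_proj_surj (A := A) W
      exact (step hp hq s r hrs).1 (hW _ p hp)
    · obtain ⟨p, hp⟩ := exists_proj_surj (A := A) Z
      obtain ⟨hP, hAR, -⟩ := prodMap_id (I := I) hp P
      exact (step hP hq LinearMap.id LinearMap.id fun _ => rfl).1 (hAR (hZ _ p hp))
  | succ i ih =>
    refine ⟨fun {W Z} _ _ _ _ s r hrs hW F _ _ _ q hq => ?_, fun {Z P} _ _ _ _ _ hZ F _ _ _ q hq => ?_⟩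
    · obtain ⟨p, hp⟩ := exists_proj_surj (A := A) W
      obtain ⟨hAR, s', r', h'⟩ := step (I := I) hp hq s r hrs
      exact ⟨hAR (hW _ p hp).1,
        ih.1 (W := LinearMap.ker p × F) (Z := LinearMap.ker q) s' r' h' (ih.2 (hW _ p hp).2)⟩
    · obtain ⟨p, hp⟩ := exists_proj_surj (A := A) Z
      obtain ⟨hP, hARP, s, r, h⟩ := prodMap_id (I := I) hp P
      obtain ⟨hAR, s', r', h'⟩ := step (I := I) hP hq LinearMap.id LinearMap.id fun _ => rfl
      exact ⟨hAR (hARP (hZ _ p hp).1),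
        ih.1 (W := LinearMap.ker (p.prodMap (LinearMap.id : P →ₗ[A] P)) × F) (Z := LinearMap.ker q) s' r' h'
          (ih.2 (ih.1 (W := LinearMap.ker p) s r h (hZ _ p hp).2))⟩

variable {W Z Z' C : Type u} [AddCommGroup W] [Module A W] [AddCommGroup Z] [Module A Z] [AddCommGroup Z'] [Module A Z']
  [AddCommGroup C] [Module A C]

theorem GoodN.retract {i : ℕ} (s : Z →ₗ[A] W) (r : W →ₗ[A] Z) (hrs : ∀ z, r (s z) = z) (h : GoodN I i W) :
    GoodN I i Z :=
  (retract_and_prod i).1 s r hrs h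

theorem Good.retract (s : Z →ₗ[A] W) (r : W →ₗ[A] Z) (hrs : ∀ z, r (s z) = z) (h : Good I W) : Good I Z :=
  fun i => (h i).retract s r hrs

theorem Good.equiv (e : Z ≃ₗ[A] W) (h : Good I W) : Good I Z :=
  h.retract e.toLinearMap e.symm.toLinearMap fun z => e.symm_apply_apply z

/-- One presentation suffices. -/
theorem goodN_succ_of {i : ℕ} {G : Type u} [AddCommGroup G] [Module A G] [Module.Projective A G] (p : G →ₗ[A] Z)
    (hp : Function.Surjective p) (hAR : ARMap I p) (hker : GoodN I i (LinearMap.ker p)) : GoodN I (i + 1) Z :=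
  fun F _ _ _ q hq => by
    obtain ⟨h, s', r', h'⟩ := step (I := I) hp hq LinearMap.id LinearMap.id fun _ => rfl
    exact ⟨h hAR, GoodN.retract (W := LinearMap.ker p × F) s' r' h' ((retract_and_prod i).2 hker)⟩

theorem goodN_zero_of {G : Type u} [AddCommGroup G] [Module A G] [Module.Projective A G] (p : G →ₗ[A] Z)
    (hp : Function.Surjective p) (hAR : ARMap I p) : GoodN I 0 Z :=
  fun F _ _ _ q hq => (step (I := I) hp hq LinearMap.id LinearMap.id fun _ => rfl).1 hAR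

/-- Artin–Rees for a submodule with good quotient. -/
theorem exists_AR_sub {C Z' : Type u} [AddCommGroup C] [Module A C] [AddCommGroup Z'] [Module A Z'] (g : C →ₗ[A] Z')
    (hg : Function.Surjective g) (h : GoodN I 0 Z') :
    ∃ c, ∀ n, ∀ x ∈ (I ^ (n + c) • ⊤ : Submodule A C), g x = 0 → x ∈ I ^ n • LinearMap.ker g := by
  obtain ⟨q, hq⟩ := exists_proj_surj (A := A) C
  obtain ⟨c, hc⟩ := h _ (g.comp q) (hg.comp hq)
  refine ⟨c, fun n x hx hgx => ?_⟩
  have h1 : (I ^ (n + c) • ⊤ : Submodule A C) = Submodule.map q (I ^ (n + c) • ⊤) := by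
    rw [Submodule.map_smul'', Submodule.map_top, LinearMap.range_eq_top.2 hq]
  rw [h1] at hx
  obtain ⟨y, hy, rfl⟩ := hx
  exact mem_smul_of_map q (fun z hz => hz) _ (hc n y hy hgx)

/-- The horseshoe. -/
lemma horseshoe {Z C Z' F₁ F₂ : Type u} [AddCommGroup Z] [Module A Z] [AddCommGroup C] [Module A C] [AddCommGroup Z']
    [Module A Z'] [AddCommGroup F₁] [Module A F₁] [AddCommGroup F₂] [Module A F₂] (f : Z →ₗ[A] C) (g : C →ₗ[A] Z')
    (hf : Function.Injective f) (hg : Function.Surjective g) (hgf : ∀ z, g (f z) = 0)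
    (hex : ∀ c, g c = 0 → ∃ z, f z = c) [Module.Projective A F₂] (q₁ : F₁ →ₗ[A] Z) (hq₁ : Function.Surjective q₁)
    (q₂ : F₂ →ₗ[A] Z') (hq₂ : Function.Surjective q₂) :
    ∃ Q : F₁ × F₂ →ₗ[A] C, Function.Surjective Q ∧ ∃ (i₁ : LinearMap.ker q₁ →ₗ[A] LinearMap.ker Q)
      (π : LinearMap.ker Q →ₗ[A] LinearMap.ker q₂), Function.Injective i₁ ∧ Function.Surjective π ∧
      (∀ x, π (i₁ x) = 0) ∧ (∀ y, π y = 0 → ∃ x, i₁ x = y) ∧
      (∀ x, (i₁ x).1 = ((x : F₁), 0)) ∧ ∀ y, (π y : F₂) = y.1.2 := by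
  obtain ⟨l, hl⟩ := Module.projective_lifting_property g q₂ hg
  have hl' : ∀ x, g (l x) = q₂ x := LinearMap.congr_fun hl
  let Q : F₁ × F₂ →ₗ[A] C := (f.comp q₁).coprod l
  have hQ : ∀ a b, Q (a, b) = f (q₁ a) + l b := fun a b => rfl
  have hQs : Function.Surjective Q := fun c => by
    obtain ⟨b, hb⟩ := hq₂ (g c)
    obtain ⟨z, hz⟩ := hex (c - l b) (by rw [map_sub, hl', hb, sub_self])
    obtain ⟨a, rfl⟩ := hq₁ z
    exact ⟨(a, b), by rw [hQ, hz, sub_add_cancel]⟩
  refine ⟨Q, hQs, (LinearMap.inl A F₁ F₂).restrict (fun x hx => ?_), (LinearMap.snd A F₁ F₂).restrict (fun y hy => ?_),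
    fun x y h => Subtype.ext (congrArg (fun t => t.1.1) h), fun b => ?_, fun x => Subtype.ext rfl, fun y hy => ?_,
    fun x => rfl, fun y => rfl⟩
  · rw [LinearMap.mem_ker] at hx ⊢
    show Q (x, 0) = 0
    rw [hQ, hx, map_zero, map_zero, add_zero]
  · rw [LinearMap.mem_ker] at hy ⊢
    show q₂ y.2 = 0
    rw [← hl', ← (map_zero g : g 0 = 0), ← hy, show Q y = f (q₁ y.1) + l y.2 from rfl, map_add, hgf, zero_add]
  · obtain ⟨z, hz⟩ := hex (-l b) (by rw [map_neg, hl', LinearMap.mem_ker.1 b.2, neg_zero])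
    obtain ⟨a, rfl⟩ := hq₁ z
    exact ⟨⟨(a, b), by rw [LinearMap.mem_ker, hQ, hz, neg_add_cancel]⟩, rfl⟩
  · have h2 : (y : F₁ × F₂).2 = 0 := congrArg Subtype.val hy
    have h1 : q₁ (y : F₁ × F₂).1 = 0 := hf (by
      have := LinearMap.mem_ker.1 y.2
      rw [show Q (y : F₁ × F₂) = f (q₁ (y : F₁ × F₂).1) + l (y : F₁ × F₂).2 from rfl, h2, map_zero, add_zero] at this
      rw [this, map_zero])
    exact ⟨⟨_, h1⟩, Subtype.ext (Prod.ext rfl h2.symm)⟩

lemma ar_kernel {F₁ F₂ : Type u} [AddCommGroup F₁] [Module A F₁] [AddCommGroup F₂] [Module A F₂] {Z C Z' : Type u}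
    [AddCommGroup Z] [Module A Z] [AddCommGroup C] [Module A C] [AddCommGroup Z'] [Module A Z']
    {q₁ : F₁ →ₗ[A] Z} {q₂ : F₂ →ₗ[A] Z'} {Q : F₁ × F₂ →ₗ[A] C} {i₁ : LinearMap.ker q₁ →ₗ[A] LinearMap.ker Q}
    {π : LinearMap.ker Q →ₗ[A] LinearMap.ker q₂} (hπ : Function.Surjective π) (hπi : ∀ x, π (i₁ x) = 0)
    (hπex : ∀ y, π y = 0 → ∃ x, i₁ x = y) (hi₁ : ∀ x, (i₁ x).1 = ((x : F₁), 0))
    (hQ : ARMap I Q) (h₂ : GoodN I 0 (LinearMap.ker q₂)) : ARMap I q₁ := by
  obtain ⟨c, hc⟩ := hQ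
  obtain ⟨c', hc'⟩ := exists_AR_sub π hπ h₂
  refine ⟨c' + c, fun n x hx hqx => ?_⟩
  let y : LinearMap.ker Q := i₁ ⟨x, hqx⟩
  have hy : y ∈ (I ^ (n + c') • ⊤ : Submodule A (LinearMap.ker Q)) := by
    apply (Submodule.mem_smul_top_iff _ _ y).2
    refine hc (n + c') _ ?_ y.2
    rw [show (y : F₁ × F₂) = LinearMap.inl A F₁ F₂ x from hi₁ _, add_assoc]
    exact map_mem_smul_top (LinearMap.inl A F₁ F₂) _ hx
  have h1 := mem_smul_of_map ((LinearMap.fst A F₁ F₂).comp (LinearMap.ker Q).subtype) (N := LinearMap.ker q₁)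
    (fun z hz => ?_) _ (hc' n y hy (hπi _))
  · rwa [LinearMap.comp_apply, Submodule.subtype_apply, show (y : F₁ × F₂) = (x, 0) from hi₁ _] at h1
  · obtain ⟨w, rfl⟩ := hπex z hz
    show ((i₁ w : LinearMap.ker Q) : F₁ × F₂).1 ∈ LinearMap.ker q₁
    rw [hi₁]
    exact w.2

lemma ar_horseshoe {F₁ F₂ : Type u} [AddCommGroup F₁] [Module A F₁] [AddCommGroup F₂] [Module A F₂] {Z C Z' : Type u}
    [AddCommGroup Z] [Module A Z] [AddCommGroup C] [Module A C] [AddCommGroup Z'] [Module A Z']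
    {q₁ : F₁ →ₗ[A] Z} {q₂ : F₂ →ₗ[A] Z'} {Q : F₁ × F₂ →ₗ[A] C} {i₁ : LinearMap.ker q₁ →ₗ[A] LinearMap.ker Q}
    {π : LinearMap.ker Q →ₗ[A] LinearMap.ker q₂} (hπ : Function.Surjective π)
    (hπex : ∀ y, π y = 0 → ∃ x, i₁ x = y) (hi₁ : ∀ x, (i₁ x).1 = ((x : F₁), 0)) (hπv : ∀ y, (π y : F₂) = y.1.2)
    (h₁ : ARMap I q₁) (h₂ : ARMap I q₂) : ARMap I Q := by
  obtain ⟨c₁, hc₁⟩ := h₁
  obtain ⟨c₂, hc₂⟩ := h₂
  refine ⟨c₁ + c₂, fun n x hx hQx => ?_⟩
  let y : LinearMap.ker Q := ⟨x, hQx⟩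
  have hb : π y ∈ (I ^ (n + c₁) • ⊤ : Submodule A (LinearMap.ker q₂)) := by
    apply (Submodule.mem_smul_top_iff _ _ (π y)).2
    refine hc₂ (n + c₁) _ ?_ (π y).2
    rw [hπv, add_assoc]
    exact map_mem_smul_top (LinearMap.snd A F₁ F₂) _ hx
  rw [← LinearMap.range_eq_top.2 hπ, LinearMap.range_eq_map, ← Submodule.map_smul''] at hb
  obtain ⟨w, hw, hwy⟩ := hb
  obtain ⟨d, hd⟩ := hπex (y - w) (by rw [map_sub, hwy, sub_self])
  have hd' : ((d : F₁), (0 : F₂)) = x - (w : F₁ × F₂) := by rw [← hi₁, hd]; rfl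
  have hw' : (w : F₁ × F₂) ∈ I ^ (n + c₁) • LinearMap.ker Q := (Submodule.mem_smul_top_iff _ _ w).1 hw
  have hd1 : (d : F₁) ∈ (I ^ (n + c₁) • ⊤ : Submodule A F₁) := by
    rw [show (d : F₁) = LinearMap.fst A F₁ F₂ (x - (w : F₁ × F₂)) by rw [← hd']; rfl]
    refine map_mem_smul_top _ _ (sub_mem (pow_smul_mono (by omega) hx) ?_)
    exact Submodule.smul_mono le_rfl le_top hw'
  have hx' : x = LinearMap.inl A F₁ F₂ (d : F₁) + (w : F₁ × F₂) :=
    ((congrArg (· + (w : F₁ × F₂)) hd').trans (sub_add_cancel x _)).symm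
  rw [hx']
  refine add_mem (mem_smul_of_map _ (fun z hz => ?_) _ (hc₁ n _ hd1 d.2)) (pow_smul_mono (Nat.le_add_right n c₁) hw')
  rw [show LinearMap.inl A F₁ F₂ z = (i₁ ⟨z, hz⟩).1 from (hi₁ ⟨z, hz⟩).symm]
  exact (i₁ ⟨z, hz⟩).2

/-- The kernel of a surjection between good modules is good. -/
theorem goodN_kernel (i : ℕ) : ∀ {Z C Z' : Type u} [AddCommGroup Z] [Module A Z] [AddCommGroup C] [Module A C]
    [AddCommGroup Z'] [Module A Z'] (f : Z →ₗ[A] C) (g : C →ₗ[A] Z'), Function.Injective f → Function.Surjective g →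
    (∀ z, g (f z) = 0) → (∀ c, g c = 0 → ∃ z, f z = c) → GoodN I i C → GoodN I (i + 1) Z' → GoodN I i Z := by
  induction i with
  | zero =>
    intro Z C Z' _ _ _ _ _ _ f g hf hg hgf hex hC hZ' F _ _ _ q hq
    obtain ⟨q₂, hq₂⟩ := exists_proj_surj (A := A) Z'
    obtain ⟨Q, hQ, i₁, π, -, hπ, hπi, hπex, hi₁, -⟩ := horseshoe f g hf hg hgf hex q hq q₂ hq₂
    exact ar_kernel hπ hπi hπex hi₁ (hC _ Q hQ) (hZ' _ q₂ hq₂).2
  | succ i ih =>
    intro Z C Z' _ _ _ _ _ _ f g hf hg hgf hex hC hZ' F _ _ _ q hq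
    obtain ⟨q₂, hq₂⟩ := exists_proj_surj (A := A) Z'
    obtain ⟨Q, hQ, i₁, π, hi, hπ, hπi, hπex, hi₁, -⟩ := horseshoe f g hf hg hgf hex q hq q₂ hq₂
    exact ⟨ar_kernel hπ hπi hπex hi₁ (hC _ Q hQ).1 (hZ' _ q₂ hq₂).2.zero_of,
      ih i₁ π hi hπ hπi hπex (hC _ Q hQ).2 (hZ' _ q₂ hq₂).2⟩

theorem Good.kernel (f : Z →ₗ[A] C) (g : C →ₗ[A] Z') (hf : Function.Injective f) (hg : Function.Surjective g)
    (hgf : ∀ z, g (f z) = 0) (hex : ∀ c, g c = 0 → ∃ z, f z = c) (hC : Good I C) (hZ' : Good I Z') : Good I Z :=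
  fun i => goodN_kernel i f g hf hg hgf hex (hC i) (hZ' (i + 1))

/-- Extensions of good modules are good. -/
theorem goodN_ext (i : ℕ) : ∀ {Z C Z' : Type u} [AddCommGroup Z] [Module A Z] [AddCommGroup C] [Module A C]
    [AddCommGroup Z'] [Module A Z'] (f : Z →ₗ[A] C) (g : C →ₗ[A] Z'), Function.Injective f → Function.Surjective g →
    (∀ z, g (f z) = 0) → (∀ c, g c = 0 → ∃ z, f z = c) → GoodN I i Z → GoodN I i Z' → GoodN I i C := by
  induction i with
  | zero =>
    intro Z C Z' _ _ _ _ _ _ f g hf hg hgf hex hZ hZ'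
    obtain ⟨q₁, hq₁⟩ := exists_proj_surj (A := A) Z
    obtain ⟨q₂, hq₂⟩ := exists_proj_surj (A := A) Z'
    obtain ⟨Q, hQ, i₁, π, -, hπ, -, hπex, hi₁, hπv⟩ := horseshoe f g hf hg hgf hex q₁ hq₁ q₂ hq₂
    exact goodN_zero_of Q hQ (ar_horseshoe hπ hπex hi₁ hπv (hZ _ q₁ hq₁) (hZ' _ q₂ hq₂))
  | succ i ih =>
    intro Z C Z' _ _ _ _ _ _ f g hf hg hgf hex hZ hZ'
    obtain ⟨q₁, hq₁⟩ := exists_proj_surj (A := A) Z
    obtain ⟨q₂, hq₂⟩ := exists_proj_surj (A := A) Z'
    obtain ⟨Q, hQ, i₁, π, hi, hπ, hπi, hπex, hi₁, hπv⟩ := horseshoe f g hf hg hgf hex q₁ hq₁ q₂ hq₂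
    exact goodN_succ_of Q hQ (ar_horseshoe hπ hπex hi₁ hπv (hZ _ q₁ hq₁).1 (hZ' _ q₂ hq₂).1)
      (ih i₁ π hi hπ hπi hπex (hZ _ q₁ hq₁).2 (hZ' _ q₂ hq₂).2)

theorem Good.ext' (f : Z →ₗ[A] C) (g : C →ₗ[A] Z') (hf : Function.Injective f) (hg : Function.Surjective g)
    (hgf : ∀ z, g (f z) = 0) (hex : ∀ c, g c = 0 → ∃ z, f z = c) (hZ : Good I Z) (hZ' : Good I Z') : Good I C :=
  fun i => goodN_ext i f g hf hg hgf hex (hZ i) (hZ' i)

theorem Good.prod (hZ : Good I Z) (hZ' : Good I Z') : Good I (Z × Z') :=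
  Good.ext' (LinearMap.inl A Z Z') (LinearMap.snd A Z Z') (fun _ _ h => congrArg Prod.fst h)
    (fun b => ⟨(0, b), rfl⟩) (fun _ => rfl) (fun c hc => ⟨c.1, Prod.ext rfl (Eq.symm hc)⟩) hZ hZ'

theorem good_of_subsingleton [Subsingleton Z] : Good I Z := fun i => by
  induction i generalizing Z with
  | zero =>
    refine goodN_zero_of (0 : PUnit.{u + 1} →ₗ[A] Z) (fun z => ⟨0, Subsingleton.elim _ _⟩) ⟨0, fun n x _ _ => ?_⟩
    rw [Subsingleton.elim x 0]
    exact zero_mem _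
  | succ i ih =>
    refine goodN_succ_of (0 : PUnit.{u + 1} →ₗ[A] Z) (fun z => ⟨0, Subsingleton.elim _ _⟩) ⟨0, fun n x _ _ => ?_⟩
      (ih (Z := _))
    rw [Subsingleton.elim x 0]
    exact zero_mem _

/-- Finite products of good modules are good. -/
theorem good_pi {κ : Type} [Finite κ] {L : κ → Type u} [∀ k, AddCommGroup (L k)] [∀ k, Module A (L k)]
    (h : ∀ k, Good I (L k)) : Good I (∀ k, L k) := by
  suffices key : ∀ (m : ℕ) (L : Fin m → Type u) [∀ k, AddCommGroup (L k)] [∀ k, Module A (L k)],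
      (∀ k, Good I (L k)) → Good I (∀ k, L k) by
    obtain ⟨m, ⟨e⟩⟩ := Finite.exists_equiv_fin κ
    exact (key m (fun k => L (e.symm k)) fun k => h _).equiv (LinearEquiv.piCongrLeft' A L e)
  intro m
  induction m with
  | zero => exact fun L _ _ _ => good_of_subsingleton
  | succ m ih =>
    intro L _ _ hL
    refine Good.equiv (W := L 0 × ∀ k : Fin m, L (Fin.succ k))
      { toFun := fun x => (x 0, fun k => x (Fin.succ k))
        map_add' := fun _ _ => rfl
        map_smul' := fun _ _ => rfl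
        invFun := fun y => Fin.cons y.1 y.2
        left_inv := fun x => Fin.cons_self_tail x
        right_inv := fun y => by simp } ((hL 0).prod (ih (fun k : Fin m => L (Fin.succ k)) fun k => hL _))

/-- Artin–Rees. -/
theorem good_of_finite_polynomial [IsNoetherianRing A] (σ : Type u) [Finite σ] : ∀ (M : Type u) [AddCommGroup M]
    [Module A M] [Module (MvPolynomial σ A) M] [IsScalarTower A (MvPolynomial σ A) M]
    [Module.Finite (MvPolynomial σ A) M], Good I M := by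
  suffices key : ∀ (i : ℕ) (M : Type u) [AddCommGroup M] [Module A M] [Module (MvPolynomial σ A) M]
      [IsScalarTower A (MvPolynomial σ A) M] [Module.Finite (MvPolynomial σ A) M], GoodN I i M from
    fun M _ _ _ _ _ i => key i M
  intro i
  induction i using Nat.strong_induction_on with
  | _ i ih =>
    intro M _ _ _ _ _
    obtain ⟨r, p, hp⟩ := Module.Finite.exists_fin' (MvPolynomial σ A) M
    have hAR : ARMap I (p.restrictScalars A) := by
      obtain ⟨k, hk⟩ := Ideal.exists_pow_inf_eq_pow_smul (I.map (algebraMap A (MvPolynomial σ A))) (LinearMap.ker p)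
      refine ⟨k, fun n x hx hpx => ?_⟩
      have h1 : x ∈ ((I.map (algebraMap A (MvPolynomial σ A))) ^ (n + k) • ⊤ :
          Submodule (MvPolynomial σ A) (Fin r → MvPolynomial σ A)) := by
        rw [← Ideal.map_pow]
        rw [← Submodule.restrictScalars_top A (MvPolynomial σ A)] at hx
        rw [← Submodule.restrictScalars_mem A, Ideal.smul_restrictScalars]
        exact hx
      have h2 := (hk (n + k) (Nat.le_add_left k n)).le ⟨h1, LinearMap.mem_ker.2 hpx⟩
      rw [Nat.add_sub_cancel, ← Ideal.map_pow] at h2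
      have h3 := Submodule.smul_mono (le_refl ((I ^ n).map (algebraMap A (MvPolynomial σ A)))) inf_le_right h2
      rw [← Submodule.restrictScalars_mem A, Ideal.smul_restrictScalars] at h3
      exact h3
    match i with
    | 0 => exact goodN_zero_of (p.restrictScalars A) hp hAR
    | i + 1 =>
      have : Module.Finite (MvPolynomial σ A) (LinearMap.ker p) := Module.Finite.of_fg (IsNoetherian.noetherian _)
      refine goodN_succ_of (p.restrictScalars A) hp hAR (GoodN.retract (W := LinearMap.ker p)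
        { toFun := fun x => (⟨x.1, x.2⟩ : LinearMap.ker p), map_add' := fun _ _ => rfl, map_smul' := fun _ _ => rfl }
        { toFun := fun x => (⟨x.1, x.2⟩ : LinearMap.ker (p.restrictScalars A)), map_add' := fun _ _ => rfl,
          map_smul' := fun _ _ => rfl } (fun _ => rfl) (ih i (Nat.lt_succ_self i) (LinearMap.ker p)))

/-- **Finite modules over finitely generated algebras are good.** -/
theorem good_of_finite [IsNoetherianRing A] (R : Type u) [CommRing R] [Algebra A R] [Algebra.FiniteType A R]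
    (M : Type u) [AddCommGroup M] [Module A M] [Module R M] [IsScalarTower A R M] [Module.Finite R M] : Good I M := by
  obtain ⟨n, f, hf⟩ := Algebra.FiniteType.iff_quotient_mvPolynomial''.1 ‹Algebra.FiniteType A R›
  let g : MvPolynomial (ULift.{u} (Fin n)) A →ₐ[A] R := f.comp (MvPolynomial.renameEquiv A Equiv.ulift).toAlgHom
  have hg : Function.Surjective g := hf.comp (MvPolynomial.renameEquiv A Equiv.ulift).surjective
  let _ : Module (MvPolynomial (ULift.{u} (Fin n)) A) M := Module.compHom M g.toRingHom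
  have : IsScalarTower A (MvPolynomial (ULift.{u} (Fin n)) A) M :=
    IsScalarTower.of_algebraMap_smul fun a x => by
      show g (algebraMap A _ a) • x = a • x
      rw [g.commutes, algebraMap_smul]
  have : Module.Finite (MvPolynomial (ULift.{u} (Fin n)) A) M := by
    obtain ⟨s, hs⟩ := Module.Finite.fg_top (R := R) (M := M)
    refine ⟨s, eq_top_iff.2 fun x _ => ?_⟩
    have hx : x ∈ Submodule.span R (s : Set M) := hs ▸ Submodule.mem_top
    induction hx using Submodule.span_induction with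
    | mem y hy => exact Submodule.subset_span hy
    | zero => exact zero_mem _
    | add y z _ _ hy hz => exact add_mem (hy trivial) (hz trivial)
    | smul a y _ hy =>
      obtain ⟨b, rfl⟩ := hg a
      exact Submodule.smul_mem _ b (hy trivial)
  exact good_of_finite_polynomial (ULift.{u} (Fin n)) M

end FormalLib
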