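import Groth.Agent.FormalLib.Good
import Groth.Agent.GradedCechLib.System

/-!
# Artin–Rees for Čech complexes of systems of good modules

If a system of good modules has finite cohomology, all its cocycle modules are good. Consequently a cocycle which is
`I ^ (n + c)`-small is `I ^ n`-small in cohomology, and a cochain with `I ^ (n + c)`-small boundary is a cocycle up to
`I ^ n`-small cochains.
-/

universe u

open CategoryTheory CategoryTheory.Limits GradedCechLib

namespace FormalLib

variable {A : Type u} [CommRing A] {ι : Type} [Fintype ι] [DecidableEq ι]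

/-- Cocycles. -/
noncomputable abbrev Zc (L : Sys A ι) (p : ℕ) : Submodule A (Cochain L p) := LinearMap.ker (dd L p)

/-- Coboundaries. -/
noncomputable abbrev Bc (L : Sys A ι) (p : ℕ) : Submodule A (Cochain L (p + 1)) := LinearMap.range (dd L p)

variable {L L' L'' : Sys A ι} {I : Ideal A}

lemma dd_dd (p : ℕ) (c : Cochain L p) : dd L (p + 1) (dd L p c) = 0 := by
  rw [← cx_d, ← cx_d]
  exact ConcreteCategory.congr_hom ((cx L).d_comp_d p (p + 1) (p + 2)) c

lemma exists_dd_eq (T : Finset ι) (hL : ∀ s : Finset ι, ¬ s ⊆ T → Subsingleton (L.obj s)) (p : ℕ) (hp : T.card ≤ p + 1)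
    (c : Cochain L (p + 1)) (hc : dd L (p + 1) c = 0) : ∃ b, dd L p b = c := by
  have h := isZero_of_support T L hL (p + 1) hp
  rw [← HomologicalComplex.exactAt_iff_isZero_homology, HomologicalComplex.exactAt_iff' _ p (p + 1) (p + 2) (by simp) (by simp),
    ShortComplex.moduleCat_exact_iff] at h
  obtain ⟨b, hb⟩ := h c ((cx_d (L := L) (p + 1) c).trans hc)
  exact ⟨b, (cx_d (L := L) p b).symm.trans hb⟩

/-- A morphism of systems on cochains. -/
noncomputable def cochainMap (φ : L ⟶ L') (p : ℕ) : Cochain L p →ₗ[A] Cochain L' p :=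
  LinearMap.pi fun J => (φ.app (rng J)).hom.comp (LinearMap.proj J)

lemma cochainMap_apply (φ : L ⟶ L') (p : ℕ) (c : Cochain L p) (J : Fin (p + 1) → ι) :
    cochainMap φ p c J = (φ.app (rng J)).hom (c J) := rfl

lemma dd_cochainMap (φ : L ⟶ L') (p : ℕ) (c : Cochain L p) :
    dd L' p (cochainMap φ p c) = cochainMap φ (p + 1) (dd L p c) := by
  funext J
  rw [dd_apply, cochainMap_apply, dd_apply, map_sum]
  refine Finset.sum_congr rfl fun k _ => ?_
  rw [map_zsmul, cochainMap_apply, app_res]

/-- A morphism of systems on cocycles. -/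
noncomputable def zMap (φ : L ⟶ L') (p : ℕ) : Zc L p →ₗ[A] Zc L' p :=
  (cochainMap φ p).restrict fun c hc => by
    rw [LinearMap.mem_ker] at hc ⊢
    rw [dd_cochainMap, hc, map_zero]

/-- Cocycles of a short exact sequence of systems, in a degree where the first cohomology vanishes. -/
lemma zMap_exact {φ : L ⟶ L'} {ψ : L' ⟶ L''} (h : Exact3 φ ψ) (q : ℕ)
    (hq : ∀ c : Cochain L (q + 1), dd L (q + 1) c = 0 → ∃ b, dd L q b = c) :
    Function.Injective (zMap φ q) ∧ Function.Surjective (zMap ψ q) ∧ (∀ z, zMap ψ q (zMap φ q z) = 0) ∧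
      ∀ z, zMap ψ q z = 0 → ∃ w, zMap φ q w = z := by
  have hinj : ∀ n, Function.Injective (cochainMap φ n) := fun n c c' e =>
    funext fun J => h.inj _ (rng_nonempty J) (congrFun e J)
  refine ⟨fun a b e => Subtype.ext (hinj q (congrArg Subtype.val e)), fun c => ?_,
    fun z => Subtype.ext (funext fun J => h.zero _ _), fun z hz => ?_⟩
  · choose b hb using fun J : Fin (q + 1) → ι => h.surj _ (rng_nonempty J) ((c : Cochain L'' q) J)
    choose a ha using fun J : Fin (q + 2) → ι => h.exact _ (rng_nonempty J) (dd L' q b J) (by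
      rw [← cochainMap_apply ψ (q + 1), ← dd_cochainMap, show cochainMap ψ q b = c from funext hb, c.2]
      rfl)
    have ha' : cochainMap φ (q + 1) a = dd L' q b := funext ha
    obtain ⟨e, he⟩ := hq a (hinj (q + 2) (by rw [← dd_cochainMap, ha', dd_dd, map_zero]))
    refine ⟨⟨b - cochainMap φ q e, ?_⟩, Subtype.ext ?_⟩
    · rw [LinearMap.mem_ker, map_sub, dd_cochainMap, he, ha', sub_self]
    · show cochainMap ψ q (b - cochainMap φ q e) = c
      rw [map_sub, show cochainMap ψ q b = c from funext hb, show cochainMap ψ q (cochainMap φ q e) = 0 from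
        funext fun J => h.zero _ _, sub_zero]
  · choose a ha using fun J : Fin (q + 1) → ι =>
      h.exact _ (rng_nonempty J) ((z : Cochain L' q) J) (congrFun (congrArg Subtype.val hz) J)
    have ha' : cochainMap φ q a = z := funext ha
    exact ⟨⟨a, hinj (q + 1) (by rw [← dd_cochainMap, ha', z.2, map_zero])⟩, Subtype.ext ha'⟩

/-- The contraction of a cone. -/
theorem dd_cone (i : ι) (h : ∀ s : Finset ι, s.Nonempty → Function.Bijective (res L (Finset.subset_insert i s))) (p : ℕ) :
    ∃ b : Cochain L (p + 1) →ₗ[A] Cochain L p, ∀ c, dd L (p + 1) c = 0 → dd L p (b c) = c := by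
  have hr : ∀ {n : ℕ} (J : Fin (n + 1) → ι), rng J ⊆ rng (Fin.cons i J : Fin (n + 2) → ι) := fun {n} J x hx => by
    obtain ⟨a, -, rfl⟩ := Finset.mem_image.1 hx
    exact Finset.mem_image.2 ⟨a.succ, Finset.mem_univ _, by simp⟩
  have hbij : ∀ {n : ℕ} (J : Fin (n + 1) → ι), Function.Bijective (res L (hr J)) := fun {n} J => by
    have hsub : insert i (rng J) ⊆ rng (Fin.cons i J : Fin (n + 2) → ι) := Finset.insert_subset
      (Finset.mem_image.2 ⟨0, Finset.mem_univ _, by simp⟩) (hr J)
    have hsup : rng (Fin.cons i J : Fin (n + 2) → ι) ⊆ insert i (rng J) := fun x hx => by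
      obtain ⟨a, -, rfl⟩ := Finset.mem_image.1 hx
      refine Fin.cases ?_ (fun b => ?_) a
      · simp
      · simp
    have := ((res_bijective_of_subset (L := L) hsub hsup).comp (h (rng J) (rng_nonempty J)))
    refine (Function.Bijective.of_comp_iff _ Function.bijective_id).1 ?_
    convert this using 1
    funext x
    exact (res_res (Finset.subset_insert i _) hsub x).symm
  let e := fun J : Fin (p + 1) → ι => LinearEquiv.ofBijective (res L (hr J)) (hbij J)
  let B : Cochain L (p + 1) →ₗ[A] Cochain L p :=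
    LinearMap.pi fun J => (e J).symm.toLinearMap.comp (LinearMap.proj (φ := fun K : Fin (p + 2) → ι => L.obj (rng K)) (Fin.cons i J : Fin (p + 2) → ι))
  refine ⟨B, fun c hc => funext fun J => (hbij J).1 ?_⟩
  have hb : ∀ J : Fin (p + 1) → ι, res L (hr J) (B c J) = c (Fin.cons i J) := fun J => (e J).apply_symm_apply _
  rw [dd_apply, map_sum]
  have h0 := congrFun hc (Fin.cons i J : Fin (p + 3) → ι)
  rw [dd_apply, Fin.sum_univ_succ] at h0
  simp only [Fin.val_zero, pow_zero, one_smul, Pi.zero_apply, Fin.val_succ, pow_succ, mul_neg, mul_one, neg_smul,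
    Finset.sum_neg_distrib] at h0
  rw [← sub_eq_add_neg, sub_eq_zero] at h0
  rw [res_congr c (show (Fin.cons i J : Fin (p + 3) → ι) ∘ (0 : Fin (p + 3)).succAbove = J by funext a; simp) _ (hr J)] at h0
  rw [h0]
  refine Finset.sum_congr rfl fun k _ => ?_
  rw [map_zsmul, res_res]
  congr 1
  have e' : (Fin.cons i J : Fin (p + 3) → ι) ∘ k.succ.succAbove = Fin.cons i (J ∘ k.succAbove) := by
    funext a
    refine Fin.cases ?_ (fun b => ?_) a
    · simp
    · simp
  have hle : rng (Fin.cons i (J ∘ k.succAbove) : Fin (p + 2) → ι) ⊆ rng (Fin.cons i J : Fin (p + 3) → ι) := fun x hx => by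
    obtain ⟨a, -, rfl⟩ := Finset.mem_image.1 hx
    refine Fin.cases ?_ (fun b => ?_) a
    · exact Finset.mem_image.2 ⟨0, Finset.mem_univ _, by simp⟩
    · exact Finset.mem_image.2 ⟨(k.succAbove b).succ, Finset.mem_univ _, by simp⟩
  rw [res_congr c e' _ hle, ← hb, res_res]

/-- Everything if `i ∈ s`, zero otherwise. -/
noncomputable def wSub (L : Sys A ι) (i : ι) (s : Finset ι) : Submodule A (L.obj s) := if i ∈ s then ⊤ else ⊥

lemma wSub_map (L : Sys A ι) (i : ι) {s t : Finset ι} (f : s ⟶ t) {x : L.obj s} (hx : x ∈ wSub L i s) :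
    (L.map f).hom x ∈ wSub L i t := by
  unfold wSub at hx ⊢
  by_cases ht : i ∈ t
  · rw [if_pos ht]; trivial
  · rw [if_neg (fun hs => ht (leOfHom f hs)), Submodule.mem_bot] at hx
    rw [hx, map_zero]
    exact zero_mem _

/-- The values on sets containing `i`, and zero elsewhere, as a subsystem. -/
noncomputable def withIdx (L : Sys A ι) (i : ι) : Sys A ι where
  obj s := ModuleCat.of A (wSub L i s)
  map {s t} f := ModuleCat.ofHom ((L.map f).hom.restrict (p := wSub L i s) (q := wSub L i t) fun _ hx => wSub_map L i f hx)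
  map_id s := ModuleCat.hom_ext (LinearMap.ext fun x => Subtype.ext (by simp))
  map_comp f g := ModuleCat.hom_ext (LinearMap.ext fun x => Subtype.ext (by simp))

/-- Its inclusion. -/
noncomputable def withIdxι (L : Sys A ι) (i : ι) : withIdx L i ⟶ L where
  app s := ModuleCat.ofHom (wSub L i s).subtype

lemma exact3_mono_coker (φ : L ⟶ L') (h : ∀ s, Function.Injective (φ.app s).hom) : Exact3 φ (cokerπ φ) where
  inj s _ := h s
  surj _ _ := Submodule.mkQ_surjective _
  zero _ x := (Submodule.Quotient.mk_eq_zero _).2 ⟨x, rfl⟩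
  exact _ _ _ hy := (Submodule.Quotient.mk_eq_zero _).1 hy

lemma subsingleton_withIdx {i : ι} {s : Finset ι} (h : i ∉ s) : Subsingleton ((withIdx L i).obj s) :=
  ⟨fun x y => Subtype.ext (by
    have hz : ∀ z : wSub L i s, z.1 = 0 := fun z => by
      have := z.2
      simp only [wSub, if_neg h, Submodule.mem_bot] at this
      exact this
    rw [hz x, hz y])⟩

lemma bijective_withIdxι {i : ι} {s : Finset ι} (h : i ∈ s) : Function.Bijective ((withIdxι L i).app s).hom :=
  ⟨Subtype.val_injective, fun x => ⟨(⟨x, by rw [wSub, if_pos h]; trivial⟩ : wSub L i s), rfl⟩⟩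

lemma good_coker_of_surjective (φ : L ⟶ L') {s : Finset ι} (h : Function.Surjective (φ.app s).hom) :
    Good I ((cokerSys φ).obj s) :=
  have : Subsingleton ((cokerSys φ).obj s) := Submodule.Quotient.subsingleton_iff.2 (LinearMap.range_eq_top.2 h)
  good_of_subsingleton

lemma good_coker_of_subsingleton (φ : L ⟶ L') {s : Finset ι} [Subsingleton (L.obj s)] (h : Good I (L'.obj s)) :
    Good I ((cokerSys φ).obj s) :=
  h.equiv (Submodule.quotEquivOfEqBot _ (LinearMap.range_eq_bot.2 (LinearMap.ext fun x => by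
    rw [Subsingleton.elim x 0, map_zero, map_zero])))

/-- Cocycles in high degree are good. -/
theorem good_zc_of_card_le (T : Finset ι) : ∀ (L : Sys A ι), (∀ s : Finset ι, ¬ s ⊆ T → Subsingleton (L.obj s)) →
    (∀ s : Finset ι, s.Nonempty → Good I (L.obj s)) → ∀ q, T.card ≤ q → Good I (Zc L q) := by
  induction T using Finset.induction_on with
  | empty =>
    intro L hL _ q _
    have : ∀ J : Fin (q + 1) → ι, Subsingleton (L.obj (rng J)) := fun J =>
      hL _ fun h => (rng_nonempty J).ne_empty (Finset.subset_empty.1 h)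
    exact good_of_subsingleton
  | @insert i T hi ih =>
    intro L hL hgood q hq
    rw [Finset.card_insert_of_notMem hi] at hq
    obtain ⟨q, rfl⟩ : ∃ r, q = r + 1 := ⟨q - 1, by omega⟩
    let S := shift L i
    have hS : ∀ s : Finset ι, ¬ s ⊆ T → i ∈ s ∨ ¬ s ⊆ insert i T := fun s hs => by
      rcases Classical.em (s ⊆ insert i T) with h | h
      · exact Or.inl (by_contra fun his => hs ((Finset.subset_insert_iff_of_notMem his).1 h))
      · exact Or.inr h
    have hSgood : ∀ s : Finset ι, Good I (S.obj s) := fun s => hgood _ (Finset.insert_nonempty i s)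
    have hshift : ∀ s : Finset ι, i ∈ s → Function.Bijective ((toShift L i).app s).hom := fun s hs =>
      res_bijective_of_subset (L := L) (Finset.subset_insert i s) (Finset.insert_subset hs (le_refl s))
    let ι₁ := withIdxι L i
    let ι₂ := withIdxι L i ≫ toShift L i
    have hι₂ : ∀ s, Function.Injective (ι₂.app s).hom := fun s => by
      by_cases h : i ∈ s
      · exact (hshift s h).1.comp (bijective_withIdxι h).1
      · have := subsingleton_withIdx (L := L) h
        exact Function.injective_of_subsingleton _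
    have hι₂' : ∀ s, i ∈ s → Function.Surjective (ι₂.app s).hom := fun s hs =>
      (hshift s hs).2.comp (bijective_withIdxι hs).2
    have hWsupp : ∀ s : Finset ι, ¬ s ⊆ insert i T → Subsingleton ((withIdx L i).obj s) := fun s hs =>
      have := hL s hs
      ⟨fun x y => Subtype.ext (Subsingleton.elim _ _)⟩
    -- the cone
    have hZS : Good I (Zc S (q + 1)) := by
      obtain ⟨b, hb⟩ := dd_cone (L := S) i (fun s _ => res_bijective_of_subset (L := L)
        (Finset.insert_subset_insert i (Finset.subset_insert i s))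
        (Finset.insert_subset (Finset.mem_insert_self _ _) le_rfl)) q
      exact (good_pi fun J => hSgood _).retract (b.comp (Zc S (q + 1)).subtype)
        ((dd S q).codRestrict _ fun c => dd_dd q c) fun z => Subtype.ext (hb _ z.2)
    have hQ₁ := ih (cokerSys ι₁) (fun s hs => by
      rcases hS s hs with h | h
      · exact Submodule.Quotient.subsingleton_iff.2 (LinearMap.range_eq_top.2 (bijective_withIdxι h).2)
      · have := hL s h
        exact Submodule.Quotient.subsingleton_iff.2 (Subsingleton.elim _ _)) (fun s hs => by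
      by_cases h : i ∈ s
      · exact good_coker_of_surjective _ (bijective_withIdxι h).2
      · have := subsingleton_withIdx (L := L) h
        exact good_coker_of_subsingleton _ (hgood s hs)) (q + 1) (by omega)
    have hQ₂ := ih (cokerSys ι₂) (fun s hs => by
      rcases hS s hs with h | h
      · exact Submodule.Quotient.subsingleton_iff.2 (LinearMap.range_eq_top.2 (hι₂' s h))
      · have : Subsingleton (S.obj s) := hL _ fun h' => h ((Finset.subset_insert i s).trans h')
        exact Submodule.Quotient.subsingleton_iff.2 (Subsingleton.elim _ _)) (fun s _ => by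
      by_cases h : i ∈ s
      · exact good_coker_of_surjective _ (hι₂' s h)
      · have := subsingleton_withIdx (L := L) h
        exact good_coker_of_subsingleton _ (hSgood s)) (q + 1) (by omega)
    have hvan := fun c hc => exists_dd_eq (L := withIdx L i) (insert i T) hWsupp (q + 1)
      (by rw [Finset.card_insert_of_notMem hi]; omega) c hc
    obtain ⟨h1, h2, h3, h4⟩ := zMap_exact (exact3_mono_coker ι₂ hι₂) (q + 1) hvan
    have hW : Good I (Zc (withIdx L i) (q + 1)) := Good.kernel _ _ h1 h2 h3 h4 hZS hQ₂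
    obtain ⟨k1, k2, k3, k4⟩ := zMap_exact (exact3_mono_coker ι₁ fun s => Subtype.val_injective) (q + 1) hvan
    exact Good.ext' _ _ k1 k2 k3 k4 hW hQ₁

section Finite

variable [IsNoetherianRing A]

/-- A system whose cohomology is finite, presented by classes of cocycles. -/
structure FiniteH (L : Sys A ι) where
  T : ℕ → Type u
  [acg : ∀ p, AddCommGroup (T p)]
  [mod : ∀ p, Module A (T p)]
  [fin : ∀ p, Module.Finite A (T p)]
  cls : ∀ p, Zc L p →ₗ[A] T p
  surj : ∀ p, Function.Surjective (cls p)
  kills : ∀ p (z : Zc L (p + 1)), cls (p + 1) z = 0 ↔ (z : Cochain L (p + 1)) ∈ Bc L p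

attribute [instance] FiniteH.acg FiniteH.mod FiniteH.fin

variable (hgood : ∀ s : Finset ι, s.Nonempty → Good I (L.obj s)) (F : FiniteH L)

include hgood F in
/-- All cocycle and coboundary modules are good. -/
theorem good_zc_bc (p : ℕ) : Good I (Zc L p) ∧ Good I (Bc L p) := by
  have hstep : ∀ q, Good I (Zc L (q + 1)) → Good I (Bc L q) ∧ Good I (Zc L q) := fun q hq => by
    have hT : Good I (F.T (q + 1)) := good_of_finite A (F.T (q + 1))
    have hB : Good I (Bc L q) := Good.kernel
      ((Bc L q).subtype.codRestrict (Zc L (q + 1)) fun b => by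
        obtain ⟨c, hc⟩ := b.2
        rw [LinearMap.mem_ker, Submodule.subtype_apply, ← hc, dd_dd])
      (F.cls (q + 1)) (fun a b h => Subtype.ext (congrArg (fun z : Zc L (q + 1) => (z : Cochain L (q + 1))) h))
      (F.surj _) (fun b => (F.kills q _).2 b.2) (fun z hz => ⟨⟨z, (F.kills q z).1 hz⟩, rfl⟩) hq hT
    exact ⟨hB, Good.kernel (Zc L q).subtype (dd L q).rangeRestrict Subtype.val_injective
      (LinearMap.surjective_rangeRestrict _) (fun z => Subtype.ext z.2)
      (fun c hc => ⟨⟨c, congrArg Subtype.val hc⟩, rfl⟩) (good_pi fun J => hgood _ (rng_nonempty J)) hB⟩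
  suffices key : ∀ j q, Fintype.card ι ≤ q + j → Good I (Zc L q) from
    ⟨key (Fintype.card ι) p (Nat.le_add_left _ _), (hstep p (key (Fintype.card ι) (p + 1) (Nat.le_add_left _ _))).1⟩
  intro j
  induction j with
  | zero =>
    exact fun q hq => good_zc_of_card_le Finset.univ L (fun s hs => absurd (Finset.subset_univ s) hs) hgood q (by simpa using hq)
  | succ j ih => exact fun q hq => (hstep q (ih (q + 1) (by omega))).2

include hgood in
/-- Small cocycles have small classes. -/
theorem exists_cls_mem_smul (p : ℕ) : ∃ c, ∀ n (z : Zc L p),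
    (z : Cochain L p) ∈ (I ^ (n + c) • ⊤ : Submodule A (Cochain L p)) →
      F.cls p z ∈ (I ^ n • ⊤ : Submodule A (F.T p)) := by
  obtain ⟨c, hc⟩ := exists_AR_sub (dd L p).rangeRestrict (LinearMap.surjective_rangeRestrict _)
    ((good_zc_bc hgood F p).2 0)
  refine ⟨c, fun n z hz => ?_⟩
  have h := hc n _ hz (Subtype.ext z.2)
  rw [LinearMap.ker_rangeRestrict, ← Submodule.mem_smul_top_iff] at h
  exact map_mem_smul_top (F.cls p) _ h

include hgood F in
/-- Cochains with small boundary are cocycles up to small cochains. -/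
theorem exists_cocycle_near (p : ℕ) : ∃ c, ∀ n (x : Cochain L p),
    dd L p x ∈ (I ^ (n + c) • ⊤ : Submodule A (Cochain L (p + 1))) →
      ∃ z : Zc L p, x - z ∈ (I ^ n • ⊤ : Submodule A (Cochain L p)) := by
  obtain ⟨c₁, hc₁⟩ := exists_AR_sub (dd L (p + 1)).rangeRestrict (LinearMap.surjective_rangeRestrict _)
    ((good_zc_bc hgood F (p + 1)).2 0)
  obtain ⟨c₂, hc₂⟩ := exists_AR_sub (F.cls (p + 1)) (F.surj _) ((good_of_finite A (F.T (p + 1)) : Good I _) 0)
  refine ⟨c₂ + c₁, fun n x hx => ?_⟩
  rw [← add_assoc] at hx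
  have h1 := hc₁ (n + c₂) _ hx (Subtype.ext (dd_dd p x))
  rw [LinearMap.ker_rangeRestrict] at h1
  let w : Zc L (p + 1) := ⟨dd L p x, dd_dd p x⟩
  have hw : w ∈ (I ^ (n + c₂) • ⊤ : Submodule A (Zc L (p + 1))) := (Submodule.mem_smul_top_iff _ _ w).2 h1
  have h2 := mem_smul_of_map (Zc L (p + 1)).subtype (N := Bc L p) (fun y hy => (F.kills p y).1 hy) _
    (hc₂ n w hw ((F.kills p w).2 ⟨x, rfl⟩))
  rw [show (Bc L p) = Submodule.map (dd L p) ⊤ from LinearMap.range_eq_map _, ← Submodule.map_smul''] at h2
  obtain ⟨y, hy, hyx⟩ := h2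
  refine ⟨⟨x - y, by rw [LinearMap.mem_ker, map_sub, hyx]; exact sub_self _⟩, ?_⟩
  rw [sub_sub_cancel]
  exact hy

end Finite

end FormalLib
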